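import Cfsg.Agent.Lib.SporRecognition.Cert.Fi22O.Perm
import Cfsg.Agent.Lib.SporRecognition.Cert.Fi22O.Steps1
import Cfsg.Agent.Lib.SporRecognition.Cert.Fi22O.Steps2
import Cfsg.Agent.Lib.SporRecognition.Cert.Fi22O.Steps3
import Cfsg.Agent.Lib.SporRecognition.Cert.Fi22O.Steps4
import Cfsg.Agent.Lib.SporRecognition.Cert.Fi22O.Steps5
import Cfsg.Agent.Lib.SporRecognition.Cert.Fi22O.Steps6
import Cfsg.Agent.Lib.SporRecognition.Cert.Fi22O.Steps7
import Cfsg.Agent.Lib.SporRecognition.Cert.Fi22O.Steps8
import Cfsg.Agent.Lib.SporRecognition.Cert.Fi22O.Steps9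

/-! Generated coset-enumeration certificate: Fi22 over <b, c, d, e, f, g, h, i>, 14080 cosets. -/

set_option autoImplicit false
set_option maxRecDepth 20000
set_option linter.all false
set_option Elab.async false

namespace CfsgLib.SporRecognition.Cert.Fi22O

open CfsgLib.SporRecognition.CosetCert

theorem defs_ok_c0 : allPow 19032 (defStep inv fact) 12 0 = true := by decide +kernel
theorem defs_ok_c1 : allPow 19032 (defStep inv fact) 12 4096 = true := by decide +kernel
theorem defs_ok_c2 : allPow 19032 (defStep inv fact) 12 8192 = true := by decide +kernel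
theorem defs_ok_c3 : allPow 19032 (defStep inv fact) 12 12288 = true := by decide +kernel
theorem defs_ok_c4 : allPow 19032 (defStep inv fact) 12 16384 = true := by decide +kernel
theorem defs_ok : allBelow 15 19032 (defStep inv fact) = true :=
  allBelow_of_upto (hi := 20480)
    (Upto.trans (mid := 8192) (Upto.trans (mid := 4096) ((Upto.of_pow defs_ok_c0 (Nat.le_refl _)) : Upto _ _ 0 (0 + 2 ^ 12))
    ((Upto.of_pow defs_ok_c1 (Nat.le_refl _)) : Upto _ _ 4096 (4096 + 2 ^ 12)))
    (Upto.trans (mid := 12288) ((Upto.of_pow defs_ok_c2 (Nat.le_refl _)) : Upto _ _ 8192 (8192 + 2 ^ 12))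
    (Upto.trans (mid := 16384) ((Upto.of_pow defs_ok_c3 (Nat.le_refl _)) : Upto _ _ 12288 (12288 + 2 ^ 12))
    ((Upto.of_pow defs_ok_c4 (Nat.le_refl _)) : Upto _ _ 16384 (16384 + 2 ^ 12)))))
    (by decide) (by decide)

theorem final1_c0 : allPow 14080 (finalStep fact node item1 T1 86115 1 14080) 10 0 = true := by decide +kernel
theorem final1_c1 : allPow 14080 (finalStep fact node item1 T1 86115 1 14080) 10 1024 = true := by decide +kernel
theorem final1_c2 : allPow 14080 (finalStep fact node item1 T1 86115 1 14080) 10 2048 = true := by decide +kernel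
theorem final1_c3 : allPow 14080 (finalStep fact node item1 T1 86115 1 14080) 10 3072 = true := by decide +kernel
theorem final1_c4 : allPow 14080 (finalStep fact node item1 T1 86115 1 14080) 10 4096 = true := by decide +kernel
theorem final1_c5 : allPow 14080 (finalStep fact node item1 T1 86115 1 14080) 10 5120 = true := by decide +kernel
theorem final1_c6 : allPow 14080 (finalStep fact node item1 T1 86115 1 14080) 10 6144 = true := by decide +kernel
theorem final1_c7 : allPow 14080 (finalStep fact node item1 T1 86115 1 14080) 10 7168 = true := by decide +kernel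
theorem final1_c8 : allPow 14080 (finalStep fact node item1 T1 86115 1 14080) 10 8192 = true := by decide +kernel
theorem final1_c9 : allPow 14080 (finalStep fact node item1 T1 86115 1 14080) 10 9216 = true := by decide +kernel
theorem final1_c10 : allPow 14080 (finalStep fact node item1 T1 86115 1 14080) 10 10240 = true := by decide +kernel
theorem final1_c11 : allPow 14080 (finalStep fact node item1 T1 86115 1 14080) 10 11264 = true := by decide +kernel
theorem final1_c12 : allPow 14080 (finalStep fact node item1 T1 86115 1 14080) 10 12288 = true := by decide +kernel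
theorem final1_c13 : allPow 14080 (finalStep fact node item1 T1 86115 1 14080) 10 13312 = true := by decide +kernel
theorem final1 : allBelow 14 14080 (finalStep fact node item1 T1 86115 1 14080) = true :=
  allBelow_of_upto (hi := 14336)
    (Upto.trans (mid := 7168) (Upto.trans (mid := 3072) (Upto.trans (mid := 1024) ((Upto.of_pow final1_c0 (Nat.le_refl _)) : Upto _ _ 0 (0 + 2 ^ 10))
    (Upto.trans (mid := 2048) ((Upto.of_pow final1_c1 (Nat.le_refl _)) : Upto _ _ 1024 (1024 + 2 ^ 10))
    ((Upto.of_pow final1_c2 (Nat.le_refl _)) : Upto _ _ 2048 (2048 + 2 ^ 10))))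
    (Upto.trans (mid := 5120) (Upto.trans (mid := 4096) ((Upto.of_pow final1_c3 (Nat.le_refl _)) : Upto _ _ 3072 (3072 + 2 ^ 10))
    ((Upto.of_pow final1_c4 (Nat.le_refl _)) : Upto _ _ 4096 (4096 + 2 ^ 10)))
    (Upto.trans (mid := 6144) ((Upto.of_pow final1_c5 (Nat.le_refl _)) : Upto _ _ 5120 (5120 + 2 ^ 10))
    ((Upto.of_pow final1_c6 (Nat.le_refl _)) : Upto _ _ 6144 (6144 + 2 ^ 10)))))
    (Upto.trans (mid := 10240) (Upto.trans (mid := 8192) ((Upto.of_pow final1_c7 (Nat.le_refl _)) : Upto _ _ 7168 (7168 + 2 ^ 10))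
    (Upto.trans (mid := 9216) ((Upto.of_pow final1_c8 (Nat.le_refl _)) : Upto _ _ 8192 (8192 + 2 ^ 10))
    ((Upto.of_pow final1_c9 (Nat.le_refl _)) : Upto _ _ 9216 (9216 + 2 ^ 10))))
    (Upto.trans (mid := 12288) (Upto.trans (mid := 11264) ((Upto.of_pow final1_c10 (Nat.le_refl _)) : Upto _ _ 10240 (10240 + 2 ^ 10))
    ((Upto.of_pow final1_c11 (Nat.le_refl _)) : Upto _ _ 11264 (11264 + 2 ^ 10)))
    (Upto.trans (mid := 13312) ((Upto.of_pow final1_c12 (Nat.le_refl _)) : Upto _ _ 12288 (12288 + 2 ^ 10))
    ((Upto.of_pow final1_c13 (Nat.le_refl _)) : Upto _ _ 13312 (13312 + 2 ^ 10))))))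
    (by decide) (by decide)

theorem final2_c0 : allPow 14080 (finalStep fact node item2 T2 86115 2 14080) 10 0 = true := by decide +kernel
theorem final2_c1 : allPow 14080 (finalStep fact node item2 T2 86115 2 14080) 10 1024 = true := by decide +kernel
theorem final2_c2 : allPow 14080 (finalStep fact node item2 T2 86115 2 14080) 10 2048 = true := by decide +kernel
theorem final2_c3 : allPow 14080 (finalStep fact node item2 T2 86115 2 14080) 10 3072 = true := by decide +kernel
theorem final2_c4 : allPow 14080 (finalStep fact node item2 T2 86115 2 14080) 10 4096 = true := by decide +kernel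
theorem final2_c5 : allPow 14080 (finalStep fact node item2 T2 86115 2 14080) 10 5120 = true := by decide +kernel
theorem final2_c6 : allPow 14080 (finalStep fact node item2 T2 86115 2 14080) 10 6144 = true := by decide +kernel
theorem final2_c7 : allPow 14080 (finalStep fact node item2 T2 86115 2 14080) 10 7168 = true := by decide +kernel
theorem final2_c8 : allPow 14080 (finalStep fact node item2 T2 86115 2 14080) 10 8192 = true := by decide +kernel
theorem final2_c9 : allPow 14080 (finalStep fact node item2 T2 86115 2 14080) 10 9216 = true := by decide +kernel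
theorem final2_c10 : allPow 14080 (finalStep fact node item2 T2 86115 2 14080) 10 10240 = true := by decide +kernel
theorem final2_c11 : allPow 14080 (finalStep fact node item2 T2 86115 2 14080) 10 11264 = true := by decide +kernel
theorem final2_c12 : allPow 14080 (finalStep fact node item2 T2 86115 2 14080) 10 12288 = true := by decide +kernel
theorem final2_c13 : allPow 14080 (finalStep fact node item2 T2 86115 2 14080) 10 13312 = true := by decide +kernel
theorem final2 : allBelow 14 14080 (finalStep fact node item2 T2 86115 2 14080) = true :=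
  allBelow_of_upto (hi := 14336)
    (Upto.trans (mid := 7168) (Upto.trans (mid := 3072) (Upto.trans (mid := 1024) ((Upto.of_pow final2_c0 (Nat.le_refl _)) : Upto _ _ 0 (0 + 2 ^ 10))
    (Upto.trans (mid := 2048) ((Upto.of_pow final2_c1 (Nat.le_refl _)) : Upto _ _ 1024 (1024 + 2 ^ 10))
    ((Upto.of_pow final2_c2 (Nat.le_refl _)) : Upto _ _ 2048 (2048 + 2 ^ 10))))
    (Upto.trans (mid := 5120) (Upto.trans (mid := 4096) ((Upto.of_pow final2_c3 (Nat.le_refl _)) : Upto _ _ 3072 (3072 + 2 ^ 10))
    ((Upto.of_pow final2_c4 (Nat.le_refl _)) : Upto _ _ 4096 (4096 + 2 ^ 10)))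
    (Upto.trans (mid := 6144) ((Upto.of_pow final2_c5 (Nat.le_refl _)) : Upto _ _ 5120 (5120 + 2 ^ 10))
    ((Upto.of_pow final2_c6 (Nat.le_refl _)) : Upto _ _ 6144 (6144 + 2 ^ 10)))))
    (Upto.trans (mid := 10240) (Upto.trans (mid := 8192) ((Upto.of_pow final2_c7 (Nat.le_refl _)) : Upto _ _ 7168 (7168 + 2 ^ 10))
    (Upto.trans (mid := 9216) ((Upto.of_pow final2_c8 (Nat.le_refl _)) : Upto _ _ 8192 (8192 + 2 ^ 10))
    ((Upto.of_pow final2_c9 (Nat.le_refl _)) : Upto _ _ 9216 (9216 + 2 ^ 10))))
    (Upto.trans (mid := 12288) (Upto.trans (mid := 11264) ((Upto.of_pow final2_c10 (Nat.le_refl _)) : Upto _ _ 10240 (10240 + 2 ^ 10))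
    ((Upto.of_pow final2_c11 (Nat.le_refl _)) : Upto _ _ 11264 (11264 + 2 ^ 10)))
    (Upto.trans (mid := 13312) ((Upto.of_pow final2_c12 (Nat.le_refl _)) : Upto _ _ 12288 (12288 + 2 ^ 10))
    ((Upto.of_pow final2_c13 (Nat.le_refl _)) : Upto _ _ 13312 (13312 + 2 ^ 10))))))
    (by decide) (by decide)

theorem final3_c0 : allPow 14080 (finalStep fact node item3 T3 86115 3 14080) 10 0 = true := by decide +kernel
theorem final3_c1 : allPow 14080 (finalStep fact node item3 T3 86115 3 14080) 10 1024 = true := by decide +kernel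
theorem final3_c2 : allPow 14080 (finalStep fact node item3 T3 86115 3 14080) 10 2048 = true := by decide +kernel
theorem final3_c3 : allPow 14080 (finalStep fact node item3 T3 86115 3 14080) 10 3072 = true := by decide +kernel
theorem final3_c4 : allPow 14080 (finalStep fact node item3 T3 86115 3 14080) 10 4096 = true := by decide +kernel
theorem final3_c5 : allPow 14080 (finalStep fact node item3 T3 86115 3 14080) 10 5120 = true := by decide +kernel
theorem final3_c6 : allPow 14080 (finalStep fact node item3 T3 86115 3 14080) 10 6144 = true := by decide +kernel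
theorem final3_c7 : allPow 14080 (finalStep fact node item3 T3 86115 3 14080) 10 7168 = true := by decide +kernel
theorem final3_c8 : allPow 14080 (finalStep fact node item3 T3 86115 3 14080) 10 8192 = true := by decide +kernel
theorem final3_c9 : allPow 14080 (finalStep fact node item3 T3 86115 3 14080) 10 9216 = true := by decide +kernel
theorem final3_c10 : allPow 14080 (finalStep fact node item3 T3 86115 3 14080) 10 10240 = true := by decide +kernel
theorem final3_c11 : allPow 14080 (finalStep fact node item3 T3 86115 3 14080) 10 11264 = true := by decide +kernel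
theorem final3_c12 : allPow 14080 (finalStep fact node item3 T3 86115 3 14080) 10 12288 = true := by decide +kernel
theorem final3_c13 : allPow 14080 (finalStep fact node item3 T3 86115 3 14080) 10 13312 = true := by decide +kernel
theorem final3 : allBelow 14 14080 (finalStep fact node item3 T3 86115 3 14080) = true :=
  allBelow_of_upto (hi := 14336)
    (Upto.trans (mid := 7168) (Upto.trans (mid := 3072) (Upto.trans (mid := 1024) ((Upto.of_pow final3_c0 (Nat.le_refl _)) : Upto _ _ 0 (0 + 2 ^ 10))
    (Upto.trans (mid := 2048) ((Upto.of_pow final3_c1 (Nat.le_refl _)) : Upto _ _ 1024 (1024 + 2 ^ 10))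
    ((Upto.of_pow final3_c2 (Nat.le_refl _)) : Upto _ _ 2048 (2048 + 2 ^ 10))))
    (Upto.trans (mid := 5120) (Upto.trans (mid := 4096) ((Upto.of_pow final3_c3 (Nat.le_refl _)) : Upto _ _ 3072 (3072 + 2 ^ 10))
    ((Upto.of_pow final3_c4 (Nat.le_refl _)) : Upto _ _ 4096 (4096 + 2 ^ 10)))
    (Upto.trans (mid := 6144) ((Upto.of_pow final3_c5 (Nat.le_refl _)) : Upto _ _ 5120 (5120 + 2 ^ 10))
    ((Upto.of_pow final3_c6 (Nat.le_refl _)) : Upto _ _ 6144 (6144 + 2 ^ 10)))))
    (Upto.trans (mid := 10240) (Upto.trans (mid := 8192) ((Upto.of_pow final3_c7 (Nat.le_refl _)) : Upto _ _ 7168 (7168 + 2 ^ 10))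
    (Upto.trans (mid := 9216) ((Upto.of_pow final3_c8 (Nat.le_refl _)) : Upto _ _ 8192 (8192 + 2 ^ 10))
    ((Upto.of_pow final3_c9 (Nat.le_refl _)) : Upto _ _ 9216 (9216 + 2 ^ 10))))
    (Upto.trans (mid := 12288) (Upto.trans (mid := 11264) ((Upto.of_pow final3_c10 (Nat.le_refl _)) : Upto _ _ 10240 (10240 + 2 ^ 10))
    ((Upto.of_pow final3_c11 (Nat.le_refl _)) : Upto _ _ 11264 (11264 + 2 ^ 10)))
    (Upto.trans (mid := 13312) ((Upto.of_pow final3_c12 (Nat.le_refl _)) : Upto _ _ 12288 (12288 + 2 ^ 10))
    ((Upto.of_pow final3_c13 (Nat.le_refl _)) : Upto _ _ 13312 (13312 + 2 ^ 10))))))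
    (by decide) (by decide)

theorem final4_c0 : allPow 14080 (finalStep fact node item4 T4 86115 4 14080) 10 0 = true := by decide +kernel
theorem final4_c1 : allPow 14080 (finalStep fact node item4 T4 86115 4 14080) 10 1024 = true := by decide +kernel
theorem final4_c2 : allPow 14080 (finalStep fact node item4 T4 86115 4 14080) 10 2048 = true := by decide +kernel
theorem final4_c3 : allPow 14080 (finalStep fact node item4 T4 86115 4 14080) 10 3072 = true := by decide +kernel
theorem final4_c4 : allPow 14080 (finalStep fact node item4 T4 86115 4 14080) 10 4096 = true := by decide +kernel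
theorem final4_c5 : allPow 14080 (finalStep fact node item4 T4 86115 4 14080) 10 5120 = true := by decide +kernel
theorem final4_c6 : allPow 14080 (finalStep fact node item4 T4 86115 4 14080) 10 6144 = true := by decide +kernel
theorem final4_c7 : allPow 14080 (finalStep fact node item4 T4 86115 4 14080) 10 7168 = true := by decide +kernel
theorem final4_c8 : allPow 14080 (finalStep fact node item4 T4 86115 4 14080) 10 8192 = true := by decide +kernel
theorem final4_c9 : allPow 14080 (finalStep fact node item4 T4 86115 4 14080) 10 9216 = true := by decide +kernel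
theorem final4_c10 : allPow 14080 (finalStep fact node item4 T4 86115 4 14080) 10 10240 = true := by decide +kernel
theorem final4_c11 : allPow 14080 (finalStep fact node item4 T4 86115 4 14080) 10 11264 = true := by decide +kernel
theorem final4_c12 : allPow 14080 (finalStep fact node item4 T4 86115 4 14080) 10 12288 = true := by decide +kernel
theorem final4_c13 : allPow 14080 (finalStep fact node item4 T4 86115 4 14080) 10 13312 = true := by decide +kernel
theorem final4 : allBelow 14 14080 (finalStep fact node item4 T4 86115 4 14080) = true :=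
  allBelow_of_upto (hi := 14336)
    (Upto.trans (mid := 7168) (Upto.trans (mid := 3072) (Upto.trans (mid := 1024) ((Upto.of_pow final4_c0 (Nat.le_refl _)) : Upto _ _ 0 (0 + 2 ^ 10))
    (Upto.trans (mid := 2048) ((Upto.of_pow final4_c1 (Nat.le_refl _)) : Upto _ _ 1024 (1024 + 2 ^ 10))
    ((Upto.of_pow final4_c2 (Nat.le_refl _)) : Upto _ _ 2048 (2048 + 2 ^ 10))))
    (Upto.trans (mid := 5120) (Upto.trans (mid := 4096) ((Upto.of_pow final4_c3 (Nat.le_refl _)) : Upto _ _ 3072 (3072 + 2 ^ 10))
    ((Upto.of_pow final4_c4 (Nat.le_refl _)) : Upto _ _ 4096 (4096 + 2 ^ 10)))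
    (Upto.trans (mid := 6144) ((Upto.of_pow final4_c5 (Nat.le_refl _)) : Upto _ _ 5120 (5120 + 2 ^ 10))
    ((Upto.of_pow final4_c6 (Nat.le_refl _)) : Upto _ _ 6144 (6144 + 2 ^ 10)))))
    (Upto.trans (mid := 10240) (Upto.trans (mid := 8192) ((Upto.of_pow final4_c7 (Nat.le_refl _)) : Upto _ _ 7168 (7168 + 2 ^ 10))
    (Upto.trans (mid := 9216) ((Upto.of_pow final4_c8 (Nat.le_refl _)) : Upto _ _ 8192 (8192 + 2 ^ 10))
    ((Upto.of_pow final4_c9 (Nat.le_refl _)) : Upto _ _ 9216 (9216 + 2 ^ 10))))
    (Upto.trans (mid := 12288) (Upto.trans (mid := 11264) ((Upto.of_pow final4_c10 (Nat.le_refl _)) : Upto _ _ 10240 (10240 + 2 ^ 10))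
    ((Upto.of_pow final4_c11 (Nat.le_refl _)) : Upto _ _ 11264 (11264 + 2 ^ 10)))
    (Upto.trans (mid := 13312) ((Upto.of_pow final4_c12 (Nat.le_refl _)) : Upto _ _ 12288 (12288 + 2 ^ 10))
    ((Upto.of_pow final4_c13 (Nat.le_refl _)) : Upto _ _ 13312 (13312 + 2 ^ 10))))))
    (by decide) (by decide)

theorem final5_c0 : allPow 14080 (finalStep fact node item5 T5 86115 5 14080) 10 0 = true := by decide +kernel
theorem final5_c1 : allPow 14080 (finalStep fact node item5 T5 86115 5 14080) 10 1024 = true := by decide +kernel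
theorem final5_c2 : allPow 14080 (finalStep fact node item5 T5 86115 5 14080) 10 2048 = true := by decide +kernel
theorem final5_c3 : allPow 14080 (finalStep fact node item5 T5 86115 5 14080) 10 3072 = true := by decide +kernel
theorem final5_c4 : allPow 14080 (finalStep fact node item5 T5 86115 5 14080) 10 4096 = true := by decide +kernel
theorem final5_c5 : allPow 14080 (finalStep fact node item5 T5 86115 5 14080) 10 5120 = true := by decide +kernel
theorem final5_c6 : allPow 14080 (finalStep fact node item5 T5 86115 5 14080) 10 6144 = true := by decide +kernel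
theorem final5_c7 : allPow 14080 (finalStep fact node item5 T5 86115 5 14080) 10 7168 = true := by decide +kernel
theorem final5_c8 : allPow 14080 (finalStep fact node item5 T5 86115 5 14080) 10 8192 = true := by decide +kernel
theorem final5_c9 : allPow 14080 (finalStep fact node item5 T5 86115 5 14080) 10 9216 = true := by decide +kernel
theorem final5_c10 : allPow 14080 (finalStep fact node item5 T5 86115 5 14080) 10 10240 = true := by decide +kernel
theorem final5_c11 : allPow 14080 (finalStep fact node item5 T5 86115 5 14080) 10 11264 = true := by decide +kernel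
theorem final5_c12 : allPow 14080 (finalStep fact node item5 T5 86115 5 14080) 10 12288 = true := by decide +kernel
theorem final5_c13 : allPow 14080 (finalStep fact node item5 T5 86115 5 14080) 10 13312 = true := by decide +kernel
theorem final5 : allBelow 14 14080 (finalStep fact node item5 T5 86115 5 14080) = true :=
  allBelow_of_upto (hi := 14336)
    (Upto.trans (mid := 7168) (Upto.trans (mid := 3072) (Upto.trans (mid := 1024) ((Upto.of_pow final5_c0 (Nat.le_refl _)) : Upto _ _ 0 (0 + 2 ^ 10))
    (Upto.trans (mid := 2048) ((Upto.of_pow final5_c1 (Nat.le_refl _)) : Upto _ _ 1024 (1024 + 2 ^ 10))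
    ((Upto.of_pow final5_c2 (Nat.le_refl _)) : Upto _ _ 2048 (2048 + 2 ^ 10))))
    (Upto.trans (mid := 5120) (Upto.trans (mid := 4096) ((Upto.of_pow final5_c3 (Nat.le_refl _)) : Upto _ _ 3072 (3072 + 2 ^ 10))
    ((Upto.of_pow final5_c4 (Nat.le_refl _)) : Upto _ _ 4096 (4096 + 2 ^ 10)))
    (Upto.trans (mid := 6144) ((Upto.of_pow final5_c5 (Nat.le_refl _)) : Upto _ _ 5120 (5120 + 2 ^ 10))
    ((Upto.of_pow final5_c6 (Nat.le_refl _)) : Upto _ _ 6144 (6144 + 2 ^ 10)))))
    (Upto.trans (mid := 10240) (Upto.trans (mid := 8192) ((Upto.of_pow final5_c7 (Nat.le_refl _)) : Upto _ _ 7168 (7168 + 2 ^ 10))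
    (Upto.trans (mid := 9216) ((Upto.of_pow final5_c8 (Nat.le_refl _)) : Upto _ _ 8192 (8192 + 2 ^ 10))
    ((Upto.of_pow final5_c9 (Nat.le_refl _)) : Upto _ _ 9216 (9216 + 2 ^ 10))))
    (Upto.trans (mid := 12288) (Upto.trans (mid := 11264) ((Upto.of_pow final5_c10 (Nat.le_refl _)) : Upto _ _ 10240 (10240 + 2 ^ 10))
    ((Upto.of_pow final5_c11 (Nat.le_refl _)) : Upto _ _ 11264 (11264 + 2 ^ 10)))
    (Upto.trans (mid := 13312) ((Upto.of_pow final5_c12 (Nat.le_refl _)) : Upto _ _ 12288 (12288 + 2 ^ 10))
    ((Upto.of_pow final5_c13 (Nat.le_refl _)) : Upto _ _ 13312 (13312 + 2 ^ 10))))))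
    (by decide) (by decide)

theorem final6_c0 : allPow 14080 (finalStep fact node item6 T6 86115 6 14080) 10 0 = true := by decide +kernel
theorem final6_c1 : allPow 14080 (finalStep fact node item6 T6 86115 6 14080) 10 1024 = true := by decide +kernel
theorem final6_c2 : allPow 14080 (finalStep fact node item6 T6 86115 6 14080) 10 2048 = true := by decide +kernel
theorem final6_c3 : allPow 14080 (finalStep fact node item6 T6 86115 6 14080) 10 3072 = true := by decide +kernel
theorem final6_c4 : allPow 14080 (finalStep fact node item6 T6 86115 6 14080) 10 4096 = true := by decide +kernel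
theorem final6_c5 : allPow 14080 (finalStep fact node item6 T6 86115 6 14080) 10 5120 = true := by decide +kernel
theorem final6_c6 : allPow 14080 (finalStep fact node item6 T6 86115 6 14080) 10 6144 = true := by decide +kernel
theorem final6_c7 : allPow 14080 (finalStep fact node item6 T6 86115 6 14080) 10 7168 = true := by decide +kernel
theorem final6_c8 : allPow 14080 (finalStep fact node item6 T6 86115 6 14080) 10 8192 = true := by decide +kernel
theorem final6_c9 : allPow 14080 (finalStep fact node item6 T6 86115 6 14080) 10 9216 = true := by decide +kernel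
theorem final6_c10 : allPow 14080 (finalStep fact node item6 T6 86115 6 14080) 10 10240 = true := by decide +kernel
theorem final6_c11 : allPow 14080 (finalStep fact node item6 T6 86115 6 14080) 10 11264 = true := by decide +kernel
theorem final6_c12 : allPow 14080 (finalStep fact node item6 T6 86115 6 14080) 10 12288 = true := by decide +kernel
theorem final6_c13 : allPow 14080 (finalStep fact node item6 T6 86115 6 14080) 10 13312 = true := by decide +kernel
theorem final6 : allBelow 14 14080 (finalStep fact node item6 T6 86115 6 14080) = true :=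
  allBelow_of_upto (hi := 14336)
    (Upto.trans (mid := 7168) (Upto.trans (mid := 3072) (Upto.trans (mid := 1024) ((Upto.of_pow final6_c0 (Nat.le_refl _)) : Upto _ _ 0 (0 + 2 ^ 10))
    (Upto.trans (mid := 2048) ((Upto.of_pow final6_c1 (Nat.le_refl _)) : Upto _ _ 1024 (1024 + 2 ^ 10))
    ((Upto.of_pow final6_c2 (Nat.le_refl _)) : Upto _ _ 2048 (2048 + 2 ^ 10))))
    (Upto.trans (mid := 5120) (Upto.trans (mid := 4096) ((Upto.of_pow final6_c3 (Nat.le_refl _)) : Upto _ _ 3072 (3072 + 2 ^ 10))
    ((Upto.of_pow final6_c4 (Nat.le_refl _)) : Upto _ _ 4096 (4096 + 2 ^ 10)))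
    (Upto.trans (mid := 6144) ((Upto.of_pow final6_c5 (Nat.le_refl _)) : Upto _ _ 5120 (5120 + 2 ^ 10))
    ((Upto.of_pow final6_c6 (Nat.le_refl _)) : Upto _ _ 6144 (6144 + 2 ^ 10)))))
    (Upto.trans (mid := 10240) (Upto.trans (mid := 8192) ((Upto.of_pow final6_c7 (Nat.le_refl _)) : Upto _ _ 7168 (7168 + 2 ^ 10))
    (Upto.trans (mid := 9216) ((Upto.of_pow final6_c8 (Nat.le_refl _)) : Upto _ _ 8192 (8192 + 2 ^ 10))
    ((Upto.of_pow final6_c9 (Nat.le_refl _)) : Upto _ _ 9216 (9216 + 2 ^ 10))))
    (Upto.trans (mid := 12288) (Upto.trans (mid := 11264) ((Upto.of_pow final6_c10 (Nat.le_refl _)) : Upto _ _ 10240 (10240 + 2 ^ 10))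
    ((Upto.of_pow final6_c11 (Nat.le_refl _)) : Upto _ _ 11264 (11264 + 2 ^ 10)))
    (Upto.trans (mid := 13312) ((Upto.of_pow final6_c12 (Nat.le_refl _)) : Upto _ _ 12288 (12288 + 2 ^ 10))
    ((Upto.of_pow final6_c13 (Nat.le_refl _)) : Upto _ _ 13312 (13312 + 2 ^ 10))))))
    (by decide) (by decide)

theorem final7_c0 : allPow 14080 (finalStep fact node item7 T7 86115 7 14080) 10 0 = true := by decide +kernel
theorem final7_c1 : allPow 14080 (finalStep fact node item7 T7 86115 7 14080) 10 1024 = true := by decide +kernel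
theorem final7_c2 : allPow 14080 (finalStep fact node item7 T7 86115 7 14080) 10 2048 = true := by decide +kernel
theorem final7_c3 : allPow 14080 (finalStep fact node item7 T7 86115 7 14080) 10 3072 = true := by decide +kernel
theorem final7_c4 : allPow 14080 (finalStep fact node item7 T7 86115 7 14080) 10 4096 = true := by decide +kernel
theorem final7_c5 : allPow 14080 (finalStep fact node item7 T7 86115 7 14080) 10 5120 = true := by decide +kernel
theorem final7_c6 : allPow 14080 (finalStep fact node item7 T7 86115 7 14080) 10 6144 = true := by decide +kernel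
theorem final7_c7 : allPow 14080 (finalStep fact node item7 T7 86115 7 14080) 10 7168 = true := by decide +kernel
theorem final7_c8 : allPow 14080 (finalStep fact node item7 T7 86115 7 14080) 10 8192 = true := by decide +kernel
theorem final7_c9 : allPow 14080 (finalStep fact node item7 T7 86115 7 14080) 10 9216 = true := by decide +kernel
theorem final7_c10 : allPow 14080 (finalStep fact node item7 T7 86115 7 14080) 10 10240 = true := by decide +kernel
theorem final7_c11 : allPow 14080 (finalStep fact node item7 T7 86115 7 14080) 10 11264 = true := by decide +kernel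
theorem final7_c12 : allPow 14080 (finalStep fact node item7 T7 86115 7 14080) 10 12288 = true := by decide +kernel
theorem final7_c13 : allPow 14080 (finalStep fact node item7 T7 86115 7 14080) 10 13312 = true := by decide +kernel
theorem final7 : allBelow 14 14080 (finalStep fact node item7 T7 86115 7 14080) = true :=
  allBelow_of_upto (hi := 14336)
    (Upto.trans (mid := 7168) (Upto.trans (mid := 3072) (Upto.trans (mid := 1024) ((Upto.of_pow final7_c0 (Nat.le_refl _)) : Upto _ _ 0 (0 + 2 ^ 10))
    (Upto.trans (mid := 2048) ((Upto.of_pow final7_c1 (Nat.le_refl _)) : Upto _ _ 1024 (1024 + 2 ^ 10))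
    ((Upto.of_pow final7_c2 (Nat.le_refl _)) : Upto _ _ 2048 (2048 + 2 ^ 10))))
    (Upto.trans (mid := 5120) (Upto.trans (mid := 4096) ((Upto.of_pow final7_c3 (Nat.le_refl _)) : Upto _ _ 3072 (3072 + 2 ^ 10))
    ((Upto.of_pow final7_c4 (Nat.le_refl _)) : Upto _ _ 4096 (4096 + 2 ^ 10)))
    (Upto.trans (mid := 6144) ((Upto.of_pow final7_c5 (Nat.le_refl _)) : Upto _ _ 5120 (5120 + 2 ^ 10))
    ((Upto.of_pow final7_c6 (Nat.le_refl _)) : Upto _ _ 6144 (6144 + 2 ^ 10)))))
    (Upto.trans (mid := 10240) (Upto.trans (mid := 8192) ((Upto.of_pow final7_c7 (Nat.le_refl _)) : Upto _ _ 7168 (7168 + 2 ^ 10))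
    (Upto.trans (mid := 9216) ((Upto.of_pow final7_c8 (Nat.le_refl _)) : Upto _ _ 8192 (8192 + 2 ^ 10))
    ((Upto.of_pow final7_c9 (Nat.le_refl _)) : Upto _ _ 9216 (9216 + 2 ^ 10))))
    (Upto.trans (mid := 12288) (Upto.trans (mid := 11264) ((Upto.of_pow final7_c10 (Nat.le_refl _)) : Upto _ _ 10240 (10240 + 2 ^ 10))
    ((Upto.of_pow final7_c11 (Nat.le_refl _)) : Upto _ _ 11264 (11264 + 2 ^ 10)))
    (Upto.trans (mid := 13312) ((Upto.of_pow final7_c12 (Nat.le_refl _)) : Upto _ _ 12288 (12288 + 2 ^ 10))
    ((Upto.of_pow final7_c13 (Nat.le_refl _)) : Upto _ _ 13312 (13312 + 2 ^ 10))))))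
    (by decide) (by decide)

theorem final8_c0 : allPow 14080 (finalStep fact node item8 T8 86115 8 14080) 10 0 = true := by decide +kernel
theorem final8_c1 : allPow 14080 (finalStep fact node item8 T8 86115 8 14080) 10 1024 = true := by decide +kernel
theorem final8_c2 : allPow 14080 (finalStep fact node item8 T8 86115 8 14080) 10 2048 = true := by decide +kernel
theorem final8_c3 : allPow 14080 (finalStep fact node item8 T8 86115 8 14080) 10 3072 = true := by decide +kernel
theorem final8_c4 : allPow 14080 (finalStep fact node item8 T8 86115 8 14080) 10 4096 = true := by decide +kernel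
theorem final8_c5 : allPow 14080 (finalStep fact node item8 T8 86115 8 14080) 10 5120 = true := by decide +kernel
theorem final8_c6 : allPow 14080 (finalStep fact node item8 T8 86115 8 14080) 10 6144 = true := by decide +kernel
theorem final8_c7 : allPow 14080 (finalStep fact node item8 T8 86115 8 14080) 10 7168 = true := by decide +kernel
theorem final8_c8 : allPow 14080 (finalStep fact node item8 T8 86115 8 14080) 10 8192 = true := by decide +kernel
theorem final8_c9 : allPow 14080 (finalStep fact node item8 T8 86115 8 14080) 10 9216 = true := by decide +kernel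
theorem final8_c10 : allPow 14080 (finalStep fact node item8 T8 86115 8 14080) 10 10240 = true := by decide +kernel
theorem final8_c11 : allPow 14080 (finalStep fact node item8 T8 86115 8 14080) 10 11264 = true := by decide +kernel
theorem final8_c12 : allPow 14080 (finalStep fact node item8 T8 86115 8 14080) 10 12288 = true := by decide +kernel
theorem final8_c13 : allPow 14080 (finalStep fact node item8 T8 86115 8 14080) 10 13312 = true := by decide +kernel
theorem final8 : allBelow 14 14080 (finalStep fact node item8 T8 86115 8 14080) = true :=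
  allBelow_of_upto (hi := 14336)
    (Upto.trans (mid := 7168) (Upto.trans (mid := 3072) (Upto.trans (mid := 1024) ((Upto.of_pow final8_c0 (Nat.le_refl _)) : Upto _ _ 0 (0 + 2 ^ 10))
    (Upto.trans (mid := 2048) ((Upto.of_pow final8_c1 (Nat.le_refl _)) : Upto _ _ 1024 (1024 + 2 ^ 10))
    ((Upto.of_pow final8_c2 (Nat.le_refl _)) : Upto _ _ 2048 (2048 + 2 ^ 10))))
    (Upto.trans (mid := 5120) (Upto.trans (mid := 4096) ((Upto.of_pow final8_c3 (Nat.le_refl _)) : Upto _ _ 3072 (3072 + 2 ^ 10))
    ((Upto.of_pow final8_c4 (Nat.le_refl _)) : Upto _ _ 4096 (4096 + 2 ^ 10)))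
    (Upto.trans (mid := 6144) ((Upto.of_pow final8_c5 (Nat.le_refl _)) : Upto _ _ 5120 (5120 + 2 ^ 10))
    ((Upto.of_pow final8_c6 (Nat.le_refl _)) : Upto _ _ 6144 (6144 + 2 ^ 10)))))
    (Upto.trans (mid := 10240) (Upto.trans (mid := 8192) ((Upto.of_pow final8_c7 (Nat.le_refl _)) : Upto _ _ 7168 (7168 + 2 ^ 10))
    (Upto.trans (mid := 9216) ((Upto.of_pow final8_c8 (Nat.le_refl _)) : Upto _ _ 8192 (8192 + 2 ^ 10))
    ((Upto.of_pow final8_c9 (Nat.le_refl _)) : Upto _ _ 9216 (9216 + 2 ^ 10))))
    (Upto.trans (mid := 12288) (Upto.trans (mid := 11264) ((Upto.of_pow final8_c10 (Nat.le_refl _)) : Upto _ _ 10240 (10240 + 2 ^ 10))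
    ((Upto.of_pow final8_c11 (Nat.le_refl _)) : Upto _ _ 11264 (11264 + 2 ^ 10)))
    (Upto.trans (mid := 13312) ((Upto.of_pow final8_c12 (Nat.le_refl _)) : Upto _ _ 12288 (12288 + 2 ^ 10))
    ((Upto.of_pow final8_c13 (Nat.le_refl _)) : Upto _ _ 13312 (13312 + 2 ^ 10))))))
    (by decide) (by decide)

theorem final9_c0 : allPow 14080 (finalStep fact node item9 T9 86115 9 14080) 10 0 = true := by decide +kernel
theorem final9_c1 : allPow 14080 (finalStep fact node item9 T9 86115 9 14080) 10 1024 = true := by decide +kernel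
theorem final9_c2 : allPow 14080 (finalStep fact node item9 T9 86115 9 14080) 10 2048 = true := by decide +kernel
theorem final9_c3 : allPow 14080 (finalStep fact node item9 T9 86115 9 14080) 10 3072 = true := by decide +kernel
theorem final9_c4 : allPow 14080 (finalStep fact node item9 T9 86115 9 14080) 10 4096 = true := by decide +kernel
theorem final9_c5 : allPow 14080 (finalStep fact node item9 T9 86115 9 14080) 10 5120 = true := by decide +kernel
theorem final9_c6 : allPow 14080 (finalStep fact node item9 T9 86115 9 14080) 10 6144 = true := by decide +kernel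
theorem final9_c7 : allPow 14080 (finalStep fact node item9 T9 86115 9 14080) 10 7168 = true := by decide +kernel
theorem final9_c8 : allPow 14080 (finalStep fact node item9 T9 86115 9 14080) 10 8192 = true := by decide +kernel
theorem final9_c9 : allPow 14080 (finalStep fact node item9 T9 86115 9 14080) 10 9216 = true := by decide +kernel
theorem final9_c10 : allPow 14080 (finalStep fact node item9 T9 86115 9 14080) 10 10240 = true := by decide +kernel
theorem final9_c11 : allPow 14080 (finalStep fact node item9 T9 86115 9 14080) 10 11264 = true := by decide +kernel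
theorem final9_c12 : allPow 14080 (finalStep fact node item9 T9 86115 9 14080) 10 12288 = true := by decide +kernel
theorem final9_c13 : allPow 14080 (finalStep fact node item9 T9 86115 9 14080) 10 13312 = true := by decide +kernel
theorem final9 : allBelow 14 14080 (finalStep fact node item9 T9 86115 9 14080) = true :=
  allBelow_of_upto (hi := 14336)
    (Upto.trans (mid := 7168) (Upto.trans (mid := 3072) (Upto.trans (mid := 1024) ((Upto.of_pow final9_c0 (Nat.le_refl _)) : Upto _ _ 0 (0 + 2 ^ 10))
    (Upto.trans (mid := 2048) ((Upto.of_pow final9_c1 (Nat.le_refl _)) : Upto _ _ 1024 (1024 + 2 ^ 10))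
    ((Upto.of_pow final9_c2 (Nat.le_refl _)) : Upto _ _ 2048 (2048 + 2 ^ 10))))
    (Upto.trans (mid := 5120) (Upto.trans (mid := 4096) ((Upto.of_pow final9_c3 (Nat.le_refl _)) : Upto _ _ 3072 (3072 + 2 ^ 10))
    ((Upto.of_pow final9_c4 (Nat.le_refl _)) : Upto _ _ 4096 (4096 + 2 ^ 10)))
    (Upto.trans (mid := 6144) ((Upto.of_pow final9_c5 (Nat.le_refl _)) : Upto _ _ 5120 (5120 + 2 ^ 10))
    ((Upto.of_pow final9_c6 (Nat.le_refl _)) : Upto _ _ 6144 (6144 + 2 ^ 10)))))
    (Upto.trans (mid := 10240) (Upto.trans (mid := 8192) ((Upto.of_pow final9_c7 (Nat.le_refl _)) : Upto _ _ 7168 (7168 + 2 ^ 10))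
    (Upto.trans (mid := 9216) ((Upto.of_pow final9_c8 (Nat.le_refl _)) : Upto _ _ 8192 (8192 + 2 ^ 10))
    ((Upto.of_pow final9_c9 (Nat.le_refl _)) : Upto _ _ 9216 (9216 + 2 ^ 10))))
    (Upto.trans (mid := 12288) (Upto.trans (mid := 11264) ((Upto.of_pow final9_c10 (Nat.le_refl _)) : Upto _ _ 10240 (10240 + 2 ^ 10))
    ((Upto.of_pow final9_c11 (Nat.le_refl _)) : Upto _ _ 11264 (11264 + 2 ^ 10)))
    (Upto.trans (mid := 13312) ((Upto.of_pow final9_c12 (Nat.le_refl _)) : Upto _ _ 12288 (12288 + 2 ^ 10))
    ((Upto.of_pow final9_c13 (Nat.le_refl _)) : Upto _ _ 13312 (13312 + 2 ^ 10))))))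
    (by decide) (by decide)

instance neZero : NeZero (14080 : Nat) := ⟨by decide⟩

theorem certified : Certified (Cfsg.Spor.coxRelators Cfsg.Spor.Fi22.edges ∪ {r | r ∈ Cfsg.Spor.Fi22.extra}) subW 14080 tabs :=
  certified_of_checks (edges := Cfsg.Spor.Fi22.edges) (pairs := pairs) (extra := Cfsg.Spor.Fi22.extra) (extraW := extraW)
    (by decide +kernel) rfl invols relW (by decide +kernel) (by decide +kernel) subW lets data 14080 rfl
    rtriv rroot 48 56 rfl rfl (by decide +kernel) (by decide +kernel)
    (fun k hk => allBelow_spec defs_ok k hk) (covers1.trans (covers2.trans (covers3.trans (covers4.trans (covers5.trans (covers6.trans (covers7.trans (covers8.trans (covers9))))))))) (by decide +kernel)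
    (by
      intro i hi u hu
      have hi' : i < 9 := hi
      interval_cases i
      · exact allBelow_spec final1 u hu
      · exact allBelow_spec final2 u hu
      · exact allBelow_spec final3 u hu
      · exact allBelow_spec final4 u hu
      · exact allBelow_spec final5 u hu
      · exact allBelow_spec final6 u hu
      · exact allBelow_spec final7 u hu
      · exact allBelow_spec final8 u hu
      · exact allBelow_spec final9 u hu
      ) tabs tablesOK relW_ok subW_fix trans_ok
    (by
      intro a
      cases a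
      · exact ⟨0, by decide, rfl, rfl⟩
      · exact ⟨1, by decide, rfl, rfl⟩
      · exact ⟨2, by decide, rfl, rfl⟩
      · exact ⟨3, by decide, rfl, rfl⟩
      · exact ⟨4, by decide, rfl, rfl⟩
      · exact ⟨5, by decide, rfl, rfl⟩
      · exact ⟨6, by decide, rfl, rfl⟩
      · exact ⟨7, by decide, rfl, rfl⟩
      · exact ⟨8, by decide, rfl, rfl⟩
      )

end CfsgLib.SporRecognition.Cert.Fi22O
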