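import Cfsg.Agent.Lib.SporRecognition.Cert.Fi22O.PermBase

/-! Generated coset-enumeration certificate: Fi22 over <b, c, d, e, f, g, h, i>, 14080 cosets. -/

set_option autoImplicit false
set_option maxRecDepth 20000
set_option linter.all false
set_option Elab.async false

namespace CfsgLib.SporRecognition.Cert.Fi22O

open CfsgLib.SporRecognition.CosetCert

theorem relChk0_c0 : allPow 14080 (fixStep [T1, T1]) 12 0 = true := by decide +kernel
theorem relChk0_c1 : allPow 14080 (fixStep [T1, T1]) 12 4096 = true := by decide +kernel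
theorem relChk0_c2 : allPow 14080 (fixStep [T1, T1]) 12 8192 = true := by decide +kernel
theorem relChk0_c3 : allPow 14080 (fixStep [T1, T1]) 12 12288 = true := by decide +kernel
theorem relChk0 : allBelow 14 14080 (fixStep [T1, T1]) = true :=
  allBelow_of_upto (hi := 16384)
    (Upto.trans (mid := 8192) (Upto.trans (mid := 4096) ((Upto.of_pow relChk0_c0 (Nat.le_refl _)) : Upto _ _ 0 (0 + 2 ^ 12))
    ((Upto.of_pow relChk0_c1 (Nat.le_refl _)) : Upto _ _ 4096 (4096 + 2 ^ 12)))
    (Upto.trans (mid := 12288) ((Upto.of_pow relChk0_c2 (Nat.le_refl _)) : Upto _ _ 8192 (8192 + 2 ^ 12))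
    ((Upto.of_pow relChk0_c3 (Nat.le_refl _)) : Upto _ _ 12288 (12288 + 2 ^ 12))))
    (by decide) (by decide)

theorem rel0 : ∀ u, u < 14080 → trace (wordTabs tabs [(.a, true), (.a, true)]) u = u :=
  trace_of_fixStep (ts := [T1, T1]) relChk0

theorem relChk1_c0 : allPow 14080 (fixStep [T2, T1, T2, T1, T2, T1]) 11 0 = true := by decide +kernel
theorem relChk1_c1 : allPow 14080 (fixStep [T2, T1, T2, T1, T2, T1]) 11 2048 = true := by decide +kernel
theorem relChk1_c2 : allPow 14080 (fixStep [T2, T1, T2, T1, T2, T1]) 11 4096 = true := by decide +kernel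
theorem relChk1_c3 : allPow 14080 (fixStep [T2, T1, T2, T1, T2, T1]) 11 6144 = true := by decide +kernel
theorem relChk1_c4 : allPow 14080 (fixStep [T2, T1, T2, T1, T2, T1]) 11 8192 = true := by decide +kernel
theorem relChk1_c5 : allPow 14080 (fixStep [T2, T1, T2, T1, T2, T1]) 11 10240 = true := by decide +kernel
theorem relChk1_c6 : allPow 14080 (fixStep [T2, T1, T2, T1, T2, T1]) 11 12288 = true := by decide +kernel
theorem relChk1 : allBelow 14 14080 (fixStep [T2, T1, T2, T1, T2, T1]) = true :=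
  allBelow_of_upto (hi := 14336)
    (Upto.trans (mid := 6144) (Upto.trans (mid := 2048) ((Upto.of_pow relChk1_c0 (Nat.le_refl _)) : Upto _ _ 0 (0 + 2 ^ 11))
    (Upto.trans (mid := 4096) ((Upto.of_pow relChk1_c1 (Nat.le_refl _)) : Upto _ _ 2048 (2048 + 2 ^ 11))
    ((Upto.of_pow relChk1_c2 (Nat.le_refl _)) : Upto _ _ 4096 (4096 + 2 ^ 11))))
    (Upto.trans (mid := 10240) (Upto.trans (mid := 8192) ((Upto.of_pow relChk1_c3 (Nat.le_refl _)) : Upto _ _ 6144 (6144 + 2 ^ 11))
    ((Upto.of_pow relChk1_c4 (Nat.le_refl _)) : Upto _ _ 8192 (8192 + 2 ^ 11)))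
    (Upto.trans (mid := 12288) ((Upto.of_pow relChk1_c5 (Nat.le_refl _)) : Upto _ _ 10240 (10240 + 2 ^ 11))
    ((Upto.of_pow relChk1_c6 (Nat.le_refl _)) : Upto _ _ 12288 (12288 + 2 ^ 11)))))
    (by decide) (by decide)

theorem rel1 : ∀ u, u < 14080 → trace (wordTabs tabs [(.a, true), (.b, true), (.a, true), (.b, true), (.a, true), (.b, true)]) u = u :=
  trace_of_fixStep (ts := [T2, T1, T2, T1, T2, T1]) relChk1

theorem relChk2_c0 : allPow 14080 (fixStep [T3, T1, T3, T1]) 11 0 = true := by decide +kernel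
theorem relChk2_c1 : allPow 14080 (fixStep [T3, T1, T3, T1]) 11 2048 = true := by decide +kernel
theorem relChk2_c2 : allPow 14080 (fixStep [T3, T1, T3, T1]) 11 4096 = true := by decide +kernel
theorem relChk2_c3 : allPow 14080 (fixStep [T3, T1, T3, T1]) 11 6144 = true := by decide +kernel
theorem relChk2_c4 : allPow 14080 (fixStep [T3, T1, T3, T1]) 11 8192 = true := by decide +kernel
theorem relChk2_c5 : allPow 14080 (fixStep [T3, T1, T3, T1]) 11 10240 = true := by decide +kernel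
theorem relChk2_c6 : allPow 14080 (fixStep [T3, T1, T3, T1]) 11 12288 = true := by decide +kernel
theorem relChk2 : allBelow 14 14080 (fixStep [T3, T1, T3, T1]) = true :=
  allBelow_of_upto (hi := 14336)
    (Upto.trans (mid := 6144) (Upto.trans (mid := 2048) ((Upto.of_pow relChk2_c0 (Nat.le_refl _)) : Upto _ _ 0 (0 + 2 ^ 11))
    (Upto.trans (mid := 4096) ((Upto.of_pow relChk2_c1 (Nat.le_refl _)) : Upto _ _ 2048 (2048 + 2 ^ 11))
    ((Upto.of_pow relChk2_c2 (Nat.le_refl _)) : Upto _ _ 4096 (4096 + 2 ^ 11))))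
    (Upto.trans (mid := 10240) (Upto.trans (mid := 8192) ((Upto.of_pow relChk2_c3 (Nat.le_refl _)) : Upto _ _ 6144 (6144 + 2 ^ 11))
    ((Upto.of_pow relChk2_c4 (Nat.le_refl _)) : Upto _ _ 8192 (8192 + 2 ^ 11)))
    (Upto.trans (mid := 12288) ((Upto.of_pow relChk2_c5 (Nat.le_refl _)) : Upto _ _ 10240 (10240 + 2 ^ 11))
    ((Upto.of_pow relChk2_c6 (Nat.le_refl _)) : Upto _ _ 12288 (12288 + 2 ^ 11)))))
    (by decide) (by decide)

theorem rel2 : ∀ u, u < 14080 → trace (wordTabs tabs [(.a, true), (.c, true), (.a, true), (.c, true)]) u = u :=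
  trace_of_fixStep (ts := [T3, T1, T3, T1]) relChk2

theorem relChk3_c0 : allPow 14080 (fixStep [T4, T1, T4, T1]) 11 0 = true := by decide +kernel
theorem relChk3_c1 : allPow 14080 (fixStep [T4, T1, T4, T1]) 11 2048 = true := by decide +kernel
theorem relChk3_c2 : allPow 14080 (fixStep [T4, T1, T4, T1]) 11 4096 = true := by decide +kernel
theorem relChk3_c3 : allPow 14080 (fixStep [T4, T1, T4, T1]) 11 6144 = true := by decide +kernel
theorem relChk3_c4 : allPow 14080 (fixStep [T4, T1, T4, T1]) 11 8192 = true := by decide +kernel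
theorem relChk3_c5 : allPow 14080 (fixStep [T4, T1, T4, T1]) 11 10240 = true := by decide +kernel
theorem relChk3_c6 : allPow 14080 (fixStep [T4, T1, T4, T1]) 11 12288 = true := by decide +kernel
theorem relChk3 : allBelow 14 14080 (fixStep [T4, T1, T4, T1]) = true :=
  allBelow_of_upto (hi := 14336)
    (Upto.trans (mid := 6144) (Upto.trans (mid := 2048) ((Upto.of_pow relChk3_c0 (Nat.le_refl _)) : Upto _ _ 0 (0 + 2 ^ 11))
    (Upto.trans (mid := 4096) ((Upto.of_pow relChk3_c1 (Nat.le_refl _)) : Upto _ _ 2048 (2048 + 2 ^ 11))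
    ((Upto.of_pow relChk3_c2 (Nat.le_refl _)) : Upto _ _ 4096 (4096 + 2 ^ 11))))
    (Upto.trans (mid := 10240) (Upto.trans (mid := 8192) ((Upto.of_pow relChk3_c3 (Nat.le_refl _)) : Upto _ _ 6144 (6144 + 2 ^ 11))
    ((Upto.of_pow relChk3_c4 (Nat.le_refl _)) : Upto _ _ 8192 (8192 + 2 ^ 11)))
    (Upto.trans (mid := 12288) ((Upto.of_pow relChk3_c5 (Nat.le_refl _)) : Upto _ _ 10240 (10240 + 2 ^ 11))
    ((Upto.of_pow relChk3_c6 (Nat.le_refl _)) : Upto _ _ 12288 (12288 + 2 ^ 11)))))
    (by decide) (by decide)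

theorem rel3 : ∀ u, u < 14080 → trace (wordTabs tabs [(.a, true), (.d, true), (.a, true), (.d, true)]) u = u :=
  trace_of_fixStep (ts := [T4, T1, T4, T1]) relChk3

theorem relChk4_c0 : allPow 14080 (fixStep [T5, T1, T5, T1]) 11 0 = true := by decide +kernel
theorem relChk4_c1 : allPow 14080 (fixStep [T5, T1, T5, T1]) 11 2048 = true := by decide +kernel
theorem relChk4_c2 : allPow 14080 (fixStep [T5, T1, T5, T1]) 11 4096 = true := by decide +kernel
theorem relChk4_c3 : allPow 14080 (fixStep [T5, T1, T5, T1]) 11 6144 = true := by decide +kernel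
theorem relChk4_c4 : allPow 14080 (fixStep [T5, T1, T5, T1]) 11 8192 = true := by decide +kernel
theorem relChk4_c5 : allPow 14080 (fixStep [T5, T1, T5, T1]) 11 10240 = true := by decide +kernel
theorem relChk4_c6 : allPow 14080 (fixStep [T5, T1, T5, T1]) 11 12288 = true := by decide +kernel
theorem relChk4 : allBelow 14 14080 (fixStep [T5, T1, T5, T1]) = true :=
  allBelow_of_upto (hi := 14336)
    (Upto.trans (mid := 6144) (Upto.trans (mid := 2048) ((Upto.of_pow relChk4_c0 (Nat.le_refl _)) : Upto _ _ 0 (0 + 2 ^ 11))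
    (Upto.trans (mid := 4096) ((Upto.of_pow relChk4_c1 (Nat.le_refl _)) : Upto _ _ 2048 (2048 + 2 ^ 11))
    ((Upto.of_pow relChk4_c2 (Nat.le_refl _)) : Upto _ _ 4096 (4096 + 2 ^ 11))))
    (Upto.trans (mid := 10240) (Upto.trans (mid := 8192) ((Upto.of_pow relChk4_c3 (Nat.le_refl _)) : Upto _ _ 6144 (6144 + 2 ^ 11))
    ((Upto.of_pow relChk4_c4 (Nat.le_refl _)) : Upto _ _ 8192 (8192 + 2 ^ 11)))
    (Upto.trans (mid := 12288) ((Upto.of_pow relChk4_c5 (Nat.le_refl _)) : Upto _ _ 10240 (10240 + 2 ^ 11))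
    ((Upto.of_pow relChk4_c6 (Nat.le_refl _)) : Upto _ _ 12288 (12288 + 2 ^ 11)))))
    (by decide) (by decide)

theorem rel4 : ∀ u, u < 14080 → trace (wordTabs tabs [(.a, true), (.e, true), (.a, true), (.e, true)]) u = u :=
  trace_of_fixStep (ts := [T5, T1, T5, T1]) relChk4

theorem relChk5_c0 : allPow 14080 (fixStep [T6, T1, T6, T1]) 11 0 = true := by decide +kernel
theorem relChk5_c1 : allPow 14080 (fixStep [T6, T1, T6, T1]) 11 2048 = true := by decide +kernel
theorem relChk5_c2 : allPow 14080 (fixStep [T6, T1, T6, T1]) 11 4096 = true := by decide +kernel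
theorem relChk5_c3 : allPow 14080 (fixStep [T6, T1, T6, T1]) 11 6144 = true := by decide +kernel
theorem relChk5_c4 : allPow 14080 (fixStep [T6, T1, T6, T1]) 11 8192 = true := by decide +kernel
theorem relChk5_c5 : allPow 14080 (fixStep [T6, T1, T6, T1]) 11 10240 = true := by decide +kernel
theorem relChk5_c6 : allPow 14080 (fixStep [T6, T1, T6, T1]) 11 12288 = true := by decide +kernel
theorem relChk5 : allBelow 14 14080 (fixStep [T6, T1, T6, T1]) = true :=
  allBelow_of_upto (hi := 14336)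
    (Upto.trans (mid := 6144) (Upto.trans (mid := 2048) ((Upto.of_pow relChk5_c0 (Nat.le_refl _)) : Upto _ _ 0 (0 + 2 ^ 11))
    (Upto.trans (mid := 4096) ((Upto.of_pow relChk5_c1 (Nat.le_refl _)) : Upto _ _ 2048 (2048 + 2 ^ 11))
    ((Upto.of_pow relChk5_c2 (Nat.le_refl _)) : Upto _ _ 4096 (4096 + 2 ^ 11))))
    (Upto.trans (mid := 10240) (Upto.trans (mid := 8192) ((Upto.of_pow relChk5_c3 (Nat.le_refl _)) : Upto _ _ 6144 (6144 + 2 ^ 11))
    ((Upto.of_pow relChk5_c4 (Nat.le_refl _)) : Upto _ _ 8192 (8192 + 2 ^ 11)))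
    (Upto.trans (mid := 12288) ((Upto.of_pow relChk5_c5 (Nat.le_refl _)) : Upto _ _ 10240 (10240 + 2 ^ 11))
    ((Upto.of_pow relChk5_c6 (Nat.le_refl _)) : Upto _ _ 12288 (12288 + 2 ^ 11)))))
    (by decide) (by decide)

theorem rel5 : ∀ u, u < 14080 → trace (wordTabs tabs [(.a, true), (.f, true), (.a, true), (.f, true)]) u = u :=
  trace_of_fixStep (ts := [T6, T1, T6, T1]) relChk5

end CfsgLib.SporRecognition.Cert.Fi22O
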