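import Cfsg.Agent.Lib.SporRecognition.Cert.Fi22O.PermBase

/-! Generated coset-enumeration certificate: Fi22 over <b, c, d, e, f, g, h, i>, 14080 cosets. -/

set_option autoImplicit false
set_option maxRecDepth 20000
set_option linter.all false
set_option Elab.async false

namespace CfsgLib.SporRecognition.Cert.Fi22O

open CfsgLib.SporRecognition.CosetCert

theorem relChk6_c0 : allPow 14080 (fixStep [T7, T1, T7, T1]) 11 0 = true := by decide +kernel
theorem relChk6_c1 : allPow 14080 (fixStep [T7, T1, T7, T1]) 11 2048 = true := by decide +kernel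
theorem relChk6_c2 : allPow 14080 (fixStep [T7, T1, T7, T1]) 11 4096 = true := by decide +kernel
theorem relChk6_c3 : allPow 14080 (fixStep [T7, T1, T7, T1]) 11 6144 = true := by decide +kernel
theorem relChk6_c4 : allPow 14080 (fixStep [T7, T1, T7, T1]) 11 8192 = true := by decide +kernel
theorem relChk6_c5 : allPow 14080 (fixStep [T7, T1, T7, T1]) 11 10240 = true := by decide +kernel
theorem relChk6_c6 : allPow 14080 (fixStep [T7, T1, T7, T1]) 11 12288 = true := by decide +kernel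
theorem relChk6 : allBelow 14 14080 (fixStep [T7, T1, T7, T1]) = true :=
  allBelow_of_upto (hi := 14336)
    (Upto.trans (mid := 6144) (Upto.trans (mid := 2048) ((Upto.of_pow relChk6_c0 (Nat.le_refl _)) : Upto _ _ 0 (0 + 2 ^ 11))
    (Upto.trans (mid := 4096) ((Upto.of_pow relChk6_c1 (Nat.le_refl _)) : Upto _ _ 2048 (2048 + 2 ^ 11))
    ((Upto.of_pow relChk6_c2 (Nat.le_refl _)) : Upto _ _ 4096 (4096 + 2 ^ 11))))
    (Upto.trans (mid := 10240) (Upto.trans (mid := 8192) ((Upto.of_pow relChk6_c3 (Nat.le_refl _)) : Upto _ _ 6144 (6144 + 2 ^ 11))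
    ((Upto.of_pow relChk6_c4 (Nat.le_refl _)) : Upto _ _ 8192 (8192 + 2 ^ 11)))
    (Upto.trans (mid := 12288) ((Upto.of_pow relChk6_c5 (Nat.le_refl _)) : Upto _ _ 10240 (10240 + 2 ^ 11))
    ((Upto.of_pow relChk6_c6 (Nat.le_refl _)) : Upto _ _ 12288 (12288 + 2 ^ 11)))))
    (by decide) (by decide)

theorem rel6 : ∀ u, u < 14080 → trace (wordTabs tabs [(.a, true), (.g, true), (.a, true), (.g, true)]) u = u :=
  trace_of_fixStep (ts := [T7, T1, T7, T1]) relChk6

theorem relChk7_c0 : allPow 14080 (fixStep [T8, T1, T8, T1]) 11 0 = true := by decide +kernel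
theorem relChk7_c1 : allPow 14080 (fixStep [T8, T1, T8, T1]) 11 2048 = true := by decide +kernel
theorem relChk7_c2 : allPow 14080 (fixStep [T8, T1, T8, T1]) 11 4096 = true := by decide +kernel
theorem relChk7_c3 : allPow 14080 (fixStep [T8, T1, T8, T1]) 11 6144 = true := by decide +kernel
theorem relChk7_c4 : allPow 14080 (fixStep [T8, T1, T8, T1]) 11 8192 = true := by decide +kernel
theorem relChk7_c5 : allPow 14080 (fixStep [T8, T1, T8, T1]) 11 10240 = true := by decide +kernel
theorem relChk7_c6 : allPow 14080 (fixStep [T8, T1, T8, T1]) 11 12288 = true := by decide +kernel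
theorem relChk7 : allBelow 14 14080 (fixStep [T8, T1, T8, T1]) = true :=
  allBelow_of_upto (hi := 14336)
    (Upto.trans (mid := 6144) (Upto.trans (mid := 2048) ((Upto.of_pow relChk7_c0 (Nat.le_refl _)) : Upto _ _ 0 (0 + 2 ^ 11))
    (Upto.trans (mid := 4096) ((Upto.of_pow relChk7_c1 (Nat.le_refl _)) : Upto _ _ 2048 (2048 + 2 ^ 11))
    ((Upto.of_pow relChk7_c2 (Nat.le_refl _)) : Upto _ _ 4096 (4096 + 2 ^ 11))))
    (Upto.trans (mid := 10240) (Upto.trans (mid := 8192) ((Upto.of_pow relChk7_c3 (Nat.le_refl _)) : Upto _ _ 6144 (6144 + 2 ^ 11))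
    ((Upto.of_pow relChk7_c4 (Nat.le_refl _)) : Upto _ _ 8192 (8192 + 2 ^ 11)))
    (Upto.trans (mid := 12288) ((Upto.of_pow relChk7_c5 (Nat.le_refl _)) : Upto _ _ 10240 (10240 + 2 ^ 11))
    ((Upto.of_pow relChk7_c6 (Nat.le_refl _)) : Upto _ _ 12288 (12288 + 2 ^ 11)))))
    (by decide) (by decide)

theorem rel7 : ∀ u, u < 14080 → trace (wordTabs tabs [(.a, true), (.h, true), (.a, true), (.h, true)]) u = u :=
  trace_of_fixStep (ts := [T8, T1, T8, T1]) relChk7

theorem relChk8_c0 : allPow 14080 (fixStep [T9, T1, T9, T1]) 11 0 = true := by decide +kernel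
theorem relChk8_c1 : allPow 14080 (fixStep [T9, T1, T9, T1]) 11 2048 = true := by decide +kernel
theorem relChk8_c2 : allPow 14080 (fixStep [T9, T1, T9, T1]) 11 4096 = true := by decide +kernel
theorem relChk8_c3 : allPow 14080 (fixStep [T9, T1, T9, T1]) 11 6144 = true := by decide +kernel
theorem relChk8_c4 : allPow 14080 (fixStep [T9, T1, T9, T1]) 11 8192 = true := by decide +kernel
theorem relChk8_c5 : allPow 14080 (fixStep [T9, T1, T9, T1]) 11 10240 = true := by decide +kernel
theorem relChk8_c6 : allPow 14080 (fixStep [T9, T1, T9, T1]) 11 12288 = true := by decide +kernel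
theorem relChk8 : allBelow 14 14080 (fixStep [T9, T1, T9, T1]) = true :=
  allBelow_of_upto (hi := 14336)
    (Upto.trans (mid := 6144) (Upto.trans (mid := 2048) ((Upto.of_pow relChk8_c0 (Nat.le_refl _)) : Upto _ _ 0 (0 + 2 ^ 11))
    (Upto.trans (mid := 4096) ((Upto.of_pow relChk8_c1 (Nat.le_refl _)) : Upto _ _ 2048 (2048 + 2 ^ 11))
    ((Upto.of_pow relChk8_c2 (Nat.le_refl _)) : Upto _ _ 4096 (4096 + 2 ^ 11))))
    (Upto.trans (mid := 10240) (Upto.trans (mid := 8192) ((Upto.of_pow relChk8_c3 (Nat.le_refl _)) : Upto _ _ 6144 (6144 + 2 ^ 11))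
    ((Upto.of_pow relChk8_c4 (Nat.le_refl _)) : Upto _ _ 8192 (8192 + 2 ^ 11)))
    (Upto.trans (mid := 12288) ((Upto.of_pow relChk8_c5 (Nat.le_refl _)) : Upto _ _ 10240 (10240 + 2 ^ 11))
    ((Upto.of_pow relChk8_c6 (Nat.le_refl _)) : Upto _ _ 12288 (12288 + 2 ^ 11)))))
    (by decide) (by decide)

theorem rel8 : ∀ u, u < 14080 → trace (wordTabs tabs [(.a, true), (.i, true), (.a, true), (.i, true)]) u = u :=
  trace_of_fixStep (ts := [T9, T1, T9, T1]) relChk8

theorem relChk9_c0 : allPow 14080 (fixStep [T2, T2]) 12 0 = true := by decide +kernel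
theorem relChk9_c1 : allPow 14080 (fixStep [T2, T2]) 12 4096 = true := by decide +kernel
theorem relChk9_c2 : allPow 14080 (fixStep [T2, T2]) 12 8192 = true := by decide +kernel
theorem relChk9_c3 : allPow 14080 (fixStep [T2, T2]) 12 12288 = true := by decide +kernel
theorem relChk9 : allBelow 14 14080 (fixStep [T2, T2]) = true :=
  allBelow_of_upto (hi := 16384)
    (Upto.trans (mid := 8192) (Upto.trans (mid := 4096) ((Upto.of_pow relChk9_c0 (Nat.le_refl _)) : Upto _ _ 0 (0 + 2 ^ 12))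
    ((Upto.of_pow relChk9_c1 (Nat.le_refl _)) : Upto _ _ 4096 (4096 + 2 ^ 12)))
    (Upto.trans (mid := 12288) ((Upto.of_pow relChk9_c2 (Nat.le_refl _)) : Upto _ _ 8192 (8192 + 2 ^ 12))
    ((Upto.of_pow relChk9_c3 (Nat.le_refl _)) : Upto _ _ 12288 (12288 + 2 ^ 12))))
    (by decide) (by decide)

theorem rel9 : ∀ u, u < 14080 → trace (wordTabs tabs [(.b, true), (.b, true)]) u = u :=
  trace_of_fixStep (ts := [T2, T2]) relChk9

theorem relChk10_c0 : allPow 14080 (fixStep [T3, T2, T3, T2, T3, T2]) 11 0 = true := by decide +kernel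
theorem relChk10_c1 : allPow 14080 (fixStep [T3, T2, T3, T2, T3, T2]) 11 2048 = true := by decide +kernel
theorem relChk10_c2 : allPow 14080 (fixStep [T3, T2, T3, T2, T3, T2]) 11 4096 = true := by decide +kernel
theorem relChk10_c3 : allPow 14080 (fixStep [T3, T2, T3, T2, T3, T2]) 11 6144 = true := by decide +kernel
theorem relChk10_c4 : allPow 14080 (fixStep [T3, T2, T3, T2, T3, T2]) 11 8192 = true := by decide +kernel
theorem relChk10_c5 : allPow 14080 (fixStep [T3, T2, T3, T2, T3, T2]) 11 10240 = true := by decide +kernel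
theorem relChk10_c6 : allPow 14080 (fixStep [T3, T2, T3, T2, T3, T2]) 11 12288 = true := by decide +kernel
theorem relChk10 : allBelow 14 14080 (fixStep [T3, T2, T3, T2, T3, T2]) = true :=
  allBelow_of_upto (hi := 14336)
    (Upto.trans (mid := 6144) (Upto.trans (mid := 2048) ((Upto.of_pow relChk10_c0 (Nat.le_refl _)) : Upto _ _ 0 (0 + 2 ^ 11))
    (Upto.trans (mid := 4096) ((Upto.of_pow relChk10_c1 (Nat.le_refl _)) : Upto _ _ 2048 (2048 + 2 ^ 11))
    ((Upto.of_pow relChk10_c2 (Nat.le_refl _)) : Upto _ _ 4096 (4096 + 2 ^ 11))))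
    (Upto.trans (mid := 10240) (Upto.trans (mid := 8192) ((Upto.of_pow relChk10_c3 (Nat.le_refl _)) : Upto _ _ 6144 (6144 + 2 ^ 11))
    ((Upto.of_pow relChk10_c4 (Nat.le_refl _)) : Upto _ _ 8192 (8192 + 2 ^ 11)))
    (Upto.trans (mid := 12288) ((Upto.of_pow relChk10_c5 (Nat.le_refl _)) : Upto _ _ 10240 (10240 + 2 ^ 11))
    ((Upto.of_pow relChk10_c6 (Nat.le_refl _)) : Upto _ _ 12288 (12288 + 2 ^ 11)))))
    (by decide) (by decide)

theorem rel10 : ∀ u, u < 14080 → trace (wordTabs tabs [(.b, true), (.c, true), (.b, true), (.c, true), (.b, true), (.c, true)]) u = u :=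
  trace_of_fixStep (ts := [T3, T2, T3, T2, T3, T2]) relChk10

theorem relChk11_c0 : allPow 14080 (fixStep [T4, T2, T4, T2]) 11 0 = true := by decide +kernel
theorem relChk11_c1 : allPow 14080 (fixStep [T4, T2, T4, T2]) 11 2048 = true := by decide +kernel
theorem relChk11_c2 : allPow 14080 (fixStep [T4, T2, T4, T2]) 11 4096 = true := by decide +kernel
theorem relChk11_c3 : allPow 14080 (fixStep [T4, T2, T4, T2]) 11 6144 = true := by decide +kernel
theorem relChk11_c4 : allPow 14080 (fixStep [T4, T2, T4, T2]) 11 8192 = true := by decide +kernel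
theorem relChk11_c5 : allPow 14080 (fixStep [T4, T2, T4, T2]) 11 10240 = true := by decide +kernel
theorem relChk11_c6 : allPow 14080 (fixStep [T4, T2, T4, T2]) 11 12288 = true := by decide +kernel
theorem relChk11 : allBelow 14 14080 (fixStep [T4, T2, T4, T2]) = true :=
  allBelow_of_upto (hi := 14336)
    (Upto.trans (mid := 6144) (Upto.trans (mid := 2048) ((Upto.of_pow relChk11_c0 (Nat.le_refl _)) : Upto _ _ 0 (0 + 2 ^ 11))
    (Upto.trans (mid := 4096) ((Upto.of_pow relChk11_c1 (Nat.le_refl _)) : Upto _ _ 2048 (2048 + 2 ^ 11))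
    ((Upto.of_pow relChk11_c2 (Nat.le_refl _)) : Upto _ _ 4096 (4096 + 2 ^ 11))))
    (Upto.trans (mid := 10240) (Upto.trans (mid := 8192) ((Upto.of_pow relChk11_c3 (Nat.le_refl _)) : Upto _ _ 6144 (6144 + 2 ^ 11))
    ((Upto.of_pow relChk11_c4 (Nat.le_refl _)) : Upto _ _ 8192 (8192 + 2 ^ 11)))
    (Upto.trans (mid := 12288) ((Upto.of_pow relChk11_c5 (Nat.le_refl _)) : Upto _ _ 10240 (10240 + 2 ^ 11))
    ((Upto.of_pow relChk11_c6 (Nat.le_refl _)) : Upto _ _ 12288 (12288 + 2 ^ 11)))))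
    (by decide) (by decide)

theorem rel11 : ∀ u, u < 14080 → trace (wordTabs tabs [(.b, true), (.d, true), (.b, true), (.d, true)]) u = u :=
  trace_of_fixStep (ts := [T4, T2, T4, T2]) relChk11

end CfsgLib.SporRecognition.Cert.Fi22O
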