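import Cfsg.Agent.Lib.SporRecognition.Cert.Fi22O.PermBase

/-! Generated coset-enumeration certificate: Fi22 over <b, c, d, e, f, g, h, i>, 14080 cosets. -/

set_option autoImplicit false
set_option maxRecDepth 20000
set_option linter.all false
set_option Elab.async false

namespace CfsgLib.SporRecognition.Cert.Fi22O

open CfsgLib.SporRecognition.CosetCert

theorem relChk28_c0 : allPow 14080 (fixStep [T8, T4, T8, T4, T8, T4]) 11 0 = true := by decide +kernel
theorem relChk28_c1 : allPow 14080 (fixStep [T8, T4, T8, T4, T8, T4]) 11 2048 = true := by decide +kernel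
theorem relChk28_c2 : allPow 14080 (fixStep [T8, T4, T8, T4, T8, T4]) 11 4096 = true := by decide +kernel
theorem relChk28_c3 : allPow 14080 (fixStep [T8, T4, T8, T4, T8, T4]) 11 6144 = true := by decide +kernel
theorem relChk28_c4 : allPow 14080 (fixStep [T8, T4, T8, T4, T8, T4]) 11 8192 = true := by decide +kernel
theorem relChk28_c5 : allPow 14080 (fixStep [T8, T4, T8, T4, T8, T4]) 11 10240 = true := by decide +kernel
theorem relChk28_c6 : allPow 14080 (fixStep [T8, T4, T8, T4, T8, T4]) 11 12288 = true := by decide +kernel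
theorem relChk28 : allBelow 14 14080 (fixStep [T8, T4, T8, T4, T8, T4]) = true :=
  allBelow_of_upto (hi := 14336)
    (Upto.trans (mid := 6144) (Upto.trans (mid := 2048) ((Upto.of_pow relChk28_c0 (Nat.le_refl _)) : Upto _ _ 0 (0 + 2 ^ 11))
    (Upto.trans (mid := 4096) ((Upto.of_pow relChk28_c1 (Nat.le_refl _)) : Upto _ _ 2048 (2048 + 2 ^ 11))
    ((Upto.of_pow relChk28_c2 (Nat.le_refl _)) : Upto _ _ 4096 (4096 + 2 ^ 11))))
    (Upto.trans (mid := 10240) (Upto.trans (mid := 8192) ((Upto.of_pow relChk28_c3 (Nat.le_refl _)) : Upto _ _ 6144 (6144 + 2 ^ 11))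
    ((Upto.of_pow relChk28_c4 (Nat.le_refl _)) : Upto _ _ 8192 (8192 + 2 ^ 11)))
    (Upto.trans (mid := 12288) ((Upto.of_pow relChk28_c5 (Nat.le_refl _)) : Upto _ _ 10240 (10240 + 2 ^ 11))
    ((Upto.of_pow relChk28_c6 (Nat.le_refl _)) : Upto _ _ 12288 (12288 + 2 ^ 11)))))
    (by decide) (by decide)

theorem rel28 : ∀ u, u < 14080 → trace (wordTabs tabs [(.d, true), (.h, true), (.d, true), (.h, true), (.d, true), (.h, true)]) u = u :=
  trace_of_fixStep (ts := [T8, T4, T8, T4, T8, T4]) relChk28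

theorem relChk29_c0 : allPow 14080 (fixStep [T9, T4, T9, T4]) 11 0 = true := by decide +kernel
theorem relChk29_c1 : allPow 14080 (fixStep [T9, T4, T9, T4]) 11 2048 = true := by decide +kernel
theorem relChk29_c2 : allPow 14080 (fixStep [T9, T4, T9, T4]) 11 4096 = true := by decide +kernel
theorem relChk29_c3 : allPow 14080 (fixStep [T9, T4, T9, T4]) 11 6144 = true := by decide +kernel
theorem relChk29_c4 : allPow 14080 (fixStep [T9, T4, T9, T4]) 11 8192 = true := by decide +kernel
theorem relChk29_c5 : allPow 14080 (fixStep [T9, T4, T9, T4]) 11 10240 = true := by decide +kernel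
theorem relChk29_c6 : allPow 14080 (fixStep [T9, T4, T9, T4]) 11 12288 = true := by decide +kernel
theorem relChk29 : allBelow 14 14080 (fixStep [T9, T4, T9, T4]) = true :=
  allBelow_of_upto (hi := 14336)
    (Upto.trans (mid := 6144) (Upto.trans (mid := 2048) ((Upto.of_pow relChk29_c0 (Nat.le_refl _)) : Upto _ _ 0 (0 + 2 ^ 11))
    (Upto.trans (mid := 4096) ((Upto.of_pow relChk29_c1 (Nat.le_refl _)) : Upto _ _ 2048 (2048 + 2 ^ 11))
    ((Upto.of_pow relChk29_c2 (Nat.le_refl _)) : Upto _ _ 4096 (4096 + 2 ^ 11))))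
    (Upto.trans (mid := 10240) (Upto.trans (mid := 8192) ((Upto.of_pow relChk29_c3 (Nat.le_refl _)) : Upto _ _ 6144 (6144 + 2 ^ 11))
    ((Upto.of_pow relChk29_c4 (Nat.le_refl _)) : Upto _ _ 8192 (8192 + 2 ^ 11)))
    (Upto.trans (mid := 12288) ((Upto.of_pow relChk29_c5 (Nat.le_refl _)) : Upto _ _ 10240 (10240 + 2 ^ 11))
    ((Upto.of_pow relChk29_c6 (Nat.le_refl _)) : Upto _ _ 12288 (12288 + 2 ^ 11)))))
    (by decide) (by decide)

theorem rel29 : ∀ u, u < 14080 → trace (wordTabs tabs [(.d, true), (.i, true), (.d, true), (.i, true)]) u = u :=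
  trace_of_fixStep (ts := [T9, T4, T9, T4]) relChk29

theorem relChk30_c0 : allPow 14080 (fixStep [T5, T5]) 12 0 = true := by decide +kernel
theorem relChk30_c1 : allPow 14080 (fixStep [T5, T5]) 12 4096 = true := by decide +kernel
theorem relChk30_c2 : allPow 14080 (fixStep [T5, T5]) 12 8192 = true := by decide +kernel
theorem relChk30_c3 : allPow 14080 (fixStep [T5, T5]) 12 12288 = true := by decide +kernel
theorem relChk30 : allBelow 14 14080 (fixStep [T5, T5]) = true :=
  allBelow_of_upto (hi := 16384)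
    (Upto.trans (mid := 8192) (Upto.trans (mid := 4096) ((Upto.of_pow relChk30_c0 (Nat.le_refl _)) : Upto _ _ 0 (0 + 2 ^ 12))
    ((Upto.of_pow relChk30_c1 (Nat.le_refl _)) : Upto _ _ 4096 (4096 + 2 ^ 12)))
    (Upto.trans (mid := 12288) ((Upto.of_pow relChk30_c2 (Nat.le_refl _)) : Upto _ _ 8192 (8192 + 2 ^ 12))
    ((Upto.of_pow relChk30_c3 (Nat.le_refl _)) : Upto _ _ 12288 (12288 + 2 ^ 12))))
    (by decide) (by decide)

theorem rel30 : ∀ u, u < 14080 → trace (wordTabs tabs [(.e, true), (.e, true)]) u = u :=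
  trace_of_fixStep (ts := [T5, T5]) relChk30

theorem relChk31_c0 : allPow 14080 (fixStep [T6, T5, T6, T5, T6, T5]) 11 0 = true := by decide +kernel
theorem relChk31_c1 : allPow 14080 (fixStep [T6, T5, T6, T5, T6, T5]) 11 2048 = true := by decide +kernel
theorem relChk31_c2 : allPow 14080 (fixStep [T6, T5, T6, T5, T6, T5]) 11 4096 = true := by decide +kernel
theorem relChk31_c3 : allPow 14080 (fixStep [T6, T5, T6, T5, T6, T5]) 11 6144 = true := by decide +kernel
theorem relChk31_c4 : allPow 14080 (fixStep [T6, T5, T6, T5, T6, T5]) 11 8192 = true := by decide +kernel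
theorem relChk31_c5 : allPow 14080 (fixStep [T6, T5, T6, T5, T6, T5]) 11 10240 = true := by decide +kernel
theorem relChk31_c6 : allPow 14080 (fixStep [T6, T5, T6, T5, T6, T5]) 11 12288 = true := by decide +kernel
theorem relChk31 : allBelow 14 14080 (fixStep [T6, T5, T6, T5, T6, T5]) = true :=
  allBelow_of_upto (hi := 14336)
    (Upto.trans (mid := 6144) (Upto.trans (mid := 2048) ((Upto.of_pow relChk31_c0 (Nat.le_refl _)) : Upto _ _ 0 (0 + 2 ^ 11))
    (Upto.trans (mid := 4096) ((Upto.of_pow relChk31_c1 (Nat.le_refl _)) : Upto _ _ 2048 (2048 + 2 ^ 11))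
    ((Upto.of_pow relChk31_c2 (Nat.le_refl _)) : Upto _ _ 4096 (4096 + 2 ^ 11))))
    (Upto.trans (mid := 10240) (Upto.trans (mid := 8192) ((Upto.of_pow relChk31_c3 (Nat.le_refl _)) : Upto _ _ 6144 (6144 + 2 ^ 11))
    ((Upto.of_pow relChk31_c4 (Nat.le_refl _)) : Upto _ _ 8192 (8192 + 2 ^ 11)))
    (Upto.trans (mid := 12288) ((Upto.of_pow relChk31_c5 (Nat.le_refl _)) : Upto _ _ 10240 (10240 + 2 ^ 11))
    ((Upto.of_pow relChk31_c6 (Nat.le_refl _)) : Upto _ _ 12288 (12288 + 2 ^ 11)))))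
    (by decide) (by decide)

theorem rel31 : ∀ u, u < 14080 → trace (wordTabs tabs [(.e, true), (.f, true), (.e, true), (.f, true), (.e, true), (.f, true)]) u = u :=
  trace_of_fixStep (ts := [T6, T5, T6, T5, T6, T5]) relChk31

theorem relChk32_c0 : allPow 14080 (fixStep [T7, T5, T7, T5]) 11 0 = true := by decide +kernel
theorem relChk32_c1 : allPow 14080 (fixStep [T7, T5, T7, T5]) 11 2048 = true := by decide +kernel
theorem relChk32_c2 : allPow 14080 (fixStep [T7, T5, T7, T5]) 11 4096 = true := by decide +kernel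
theorem relChk32_c3 : allPow 14080 (fixStep [T7, T5, T7, T5]) 11 6144 = true := by decide +kernel
theorem relChk32_c4 : allPow 14080 (fixStep [T7, T5, T7, T5]) 11 8192 = true := by decide +kernel
theorem relChk32_c5 : allPow 14080 (fixStep [T7, T5, T7, T5]) 11 10240 = true := by decide +kernel
theorem relChk32_c6 : allPow 14080 (fixStep [T7, T5, T7, T5]) 11 12288 = true := by decide +kernel
theorem relChk32 : allBelow 14 14080 (fixStep [T7, T5, T7, T5]) = true :=
  allBelow_of_upto (hi := 14336)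
    (Upto.trans (mid := 6144) (Upto.trans (mid := 2048) ((Upto.of_pow relChk32_c0 (Nat.le_refl _)) : Upto _ _ 0 (0 + 2 ^ 11))
    (Upto.trans (mid := 4096) ((Upto.of_pow relChk32_c1 (Nat.le_refl _)) : Upto _ _ 2048 (2048 + 2 ^ 11))
    ((Upto.of_pow relChk32_c2 (Nat.le_refl _)) : Upto _ _ 4096 (4096 + 2 ^ 11))))
    (Upto.trans (mid := 10240) (Upto.trans (mid := 8192) ((Upto.of_pow relChk32_c3 (Nat.le_refl _)) : Upto _ _ 6144 (6144 + 2 ^ 11))
    ((Upto.of_pow relChk32_c4 (Nat.le_refl _)) : Upto _ _ 8192 (8192 + 2 ^ 11)))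
    (Upto.trans (mid := 12288) ((Upto.of_pow relChk32_c5 (Nat.le_refl _)) : Upto _ _ 10240 (10240 + 2 ^ 11))
    ((Upto.of_pow relChk32_c6 (Nat.le_refl _)) : Upto _ _ 12288 (12288 + 2 ^ 11)))))
    (by decide) (by decide)

theorem rel32 : ∀ u, u < 14080 → trace (wordTabs tabs [(.e, true), (.g, true), (.e, true), (.g, true)]) u = u :=
  trace_of_fixStep (ts := [T7, T5, T7, T5]) relChk32

end CfsgLib.SporRecognition.Cert.Fi22O
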