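import Cfsg.Agent.Lib.SporRecognition.Cert.Fi22O.PermBase

/-! Generated coset-enumeration certificate: Fi22 over <b, c, d, e, f, g, h, i>, 14080 cosets. -/

set_option autoImplicit false
set_option maxRecDepth 20000
set_option linter.all false
set_option Elab.async false

namespace CfsgLib.SporRecognition.Cert.Fi22O

open CfsgLib.SporRecognition.CosetCert

theorem relChk33_c0 : allPow 14080 (fixStep [T8, T5, T8, T5]) 11 0 = true := by decide +kernel
theorem relChk33_c1 : allPow 14080 (fixStep [T8, T5, T8, T5]) 11 2048 = true := by decide +kernel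
theorem relChk33_c2 : allPow 14080 (fixStep [T8, T5, T8, T5]) 11 4096 = true := by decide +kernel
theorem relChk33_c3 : allPow 14080 (fixStep [T8, T5, T8, T5]) 11 6144 = true := by decide +kernel
theorem relChk33_c4 : allPow 14080 (fixStep [T8, T5, T8, T5]) 11 8192 = true := by decide +kernel
theorem relChk33_c5 : allPow 14080 (fixStep [T8, T5, T8, T5]) 11 10240 = true := by decide +kernel
theorem relChk33_c6 : allPow 14080 (fixStep [T8, T5, T8, T5]) 11 12288 = true := by decide +kernel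
theorem relChk33 : allBelow 14 14080 (fixStep [T8, T5, T8, T5]) = true :=
  allBelow_of_upto (hi := 14336)
    (Upto.trans (mid := 6144) (Upto.trans (mid := 2048) ((Upto.of_pow relChk33_c0 (Nat.le_refl _)) : Upto _ _ 0 (0 + 2 ^ 11))
    (Upto.trans (mid := 4096) ((Upto.of_pow relChk33_c1 (Nat.le_refl _)) : Upto _ _ 2048 (2048 + 2 ^ 11))
    ((Upto.of_pow relChk33_c2 (Nat.le_refl _)) : Upto _ _ 4096 (4096 + 2 ^ 11))))
    (Upto.trans (mid := 10240) (Upto.trans (mid := 8192) ((Upto.of_pow relChk33_c3 (Nat.le_refl _)) : Upto _ _ 6144 (6144 + 2 ^ 11))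
    ((Upto.of_pow relChk33_c4 (Nat.le_refl _)) : Upto _ _ 8192 (8192 + 2 ^ 11)))
    (Upto.trans (mid := 12288) ((Upto.of_pow relChk33_c5 (Nat.le_refl _)) : Upto _ _ 10240 (10240 + 2 ^ 11))
    ((Upto.of_pow relChk33_c6 (Nat.le_refl _)) : Upto _ _ 12288 (12288 + 2 ^ 11)))))
    (by decide) (by decide)

theorem rel33 : ∀ u, u < 14080 → trace (wordTabs tabs [(.e, true), (.h, true), (.e, true), (.h, true)]) u = u :=
  trace_of_fixStep (ts := [T8, T5, T8, T5]) relChk33

theorem relChk34_c0 : allPow 14080 (fixStep [T9, T5, T9, T5]) 11 0 = true := by decide +kernel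
theorem relChk34_c1 : allPow 14080 (fixStep [T9, T5, T9, T5]) 11 2048 = true := by decide +kernel
theorem relChk34_c2 : allPow 14080 (fixStep [T9, T5, T9, T5]) 11 4096 = true := by decide +kernel
theorem relChk34_c3 : allPow 14080 (fixStep [T9, T5, T9, T5]) 11 6144 = true := by decide +kernel
theorem relChk34_c4 : allPow 14080 (fixStep [T9, T5, T9, T5]) 11 8192 = true := by decide +kernel
theorem relChk34_c5 : allPow 14080 (fixStep [T9, T5, T9, T5]) 11 10240 = true := by decide +kernel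
theorem relChk34_c6 : allPow 14080 (fixStep [T9, T5, T9, T5]) 11 12288 = true := by decide +kernel
theorem relChk34 : allBelow 14 14080 (fixStep [T9, T5, T9, T5]) = true :=
  allBelow_of_upto (hi := 14336)
    (Upto.trans (mid := 6144) (Upto.trans (mid := 2048) ((Upto.of_pow relChk34_c0 (Nat.le_refl _)) : Upto _ _ 0 (0 + 2 ^ 11))
    (Upto.trans (mid := 4096) ((Upto.of_pow relChk34_c1 (Nat.le_refl _)) : Upto _ _ 2048 (2048 + 2 ^ 11))
    ((Upto.of_pow relChk34_c2 (Nat.le_refl _)) : Upto _ _ 4096 (4096 + 2 ^ 11))))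
    (Upto.trans (mid := 10240) (Upto.trans (mid := 8192) ((Upto.of_pow relChk34_c3 (Nat.le_refl _)) : Upto _ _ 6144 (6144 + 2 ^ 11))
    ((Upto.of_pow relChk34_c4 (Nat.le_refl _)) : Upto _ _ 8192 (8192 + 2 ^ 11)))
    (Upto.trans (mid := 12288) ((Upto.of_pow relChk34_c5 (Nat.le_refl _)) : Upto _ _ 10240 (10240 + 2 ^ 11))
    ((Upto.of_pow relChk34_c6 (Nat.le_refl _)) : Upto _ _ 12288 (12288 + 2 ^ 11)))))
    (by decide) (by decide)

theorem rel34 : ∀ u, u < 14080 → trace (wordTabs tabs [(.e, true), (.i, true), (.e, true), (.i, true)]) u = u :=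
  trace_of_fixStep (ts := [T9, T5, T9, T5]) relChk34

theorem relChk35_c0 : allPow 14080 (fixStep [T6, T6]) 12 0 = true := by decide +kernel
theorem relChk35_c1 : allPow 14080 (fixStep [T6, T6]) 12 4096 = true := by decide +kernel
theorem relChk35_c2 : allPow 14080 (fixStep [T6, T6]) 12 8192 = true := by decide +kernel
theorem relChk35_c3 : allPow 14080 (fixStep [T6, T6]) 12 12288 = true := by decide +kernel
theorem relChk35 : allBelow 14 14080 (fixStep [T6, T6]) = true :=
  allBelow_of_upto (hi := 16384)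
    (Upto.trans (mid := 8192) (Upto.trans (mid := 4096) ((Upto.of_pow relChk35_c0 (Nat.le_refl _)) : Upto _ _ 0 (0 + 2 ^ 12))
    ((Upto.of_pow relChk35_c1 (Nat.le_refl _)) : Upto _ _ 4096 (4096 + 2 ^ 12)))
    (Upto.trans (mid := 12288) ((Upto.of_pow relChk35_c2 (Nat.le_refl _)) : Upto _ _ 8192 (8192 + 2 ^ 12))
    ((Upto.of_pow relChk35_c3 (Nat.le_refl _)) : Upto _ _ 12288 (12288 + 2 ^ 12))))
    (by decide) (by decide)

theorem rel35 : ∀ u, u < 14080 → trace (wordTabs tabs [(.f, true), (.f, true)]) u = u :=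
  trace_of_fixStep (ts := [T6, T6]) relChk35

theorem relChk36_c0 : allPow 14080 (fixStep [T7, T6, T7, T6, T7, T6]) 11 0 = true := by decide +kernel
theorem relChk36_c1 : allPow 14080 (fixStep [T7, T6, T7, T6, T7, T6]) 11 2048 = true := by decide +kernel
theorem relChk36_c2 : allPow 14080 (fixStep [T7, T6, T7, T6, T7, T6]) 11 4096 = true := by decide +kernel
theorem relChk36_c3 : allPow 14080 (fixStep [T7, T6, T7, T6, T7, T6]) 11 6144 = true := by decide +kernel
theorem relChk36_c4 : allPow 14080 (fixStep [T7, T6, T7, T6, T7, T6]) 11 8192 = true := by decide +kernel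
theorem relChk36_c5 : allPow 14080 (fixStep [T7, T6, T7, T6, T7, T6]) 11 10240 = true := by decide +kernel
theorem relChk36_c6 : allPow 14080 (fixStep [T7, T6, T7, T6, T7, T6]) 11 12288 = true := by decide +kernel
theorem relChk36 : allBelow 14 14080 (fixStep [T7, T6, T7, T6, T7, T6]) = true :=
  allBelow_of_upto (hi := 14336)
    (Upto.trans (mid := 6144) (Upto.trans (mid := 2048) ((Upto.of_pow relChk36_c0 (Nat.le_refl _)) : Upto _ _ 0 (0 + 2 ^ 11))
    (Upto.trans (mid := 4096) ((Upto.of_pow relChk36_c1 (Nat.le_refl _)) : Upto _ _ 2048 (2048 + 2 ^ 11))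
    ((Upto.of_pow relChk36_c2 (Nat.le_refl _)) : Upto _ _ 4096 (4096 + 2 ^ 11))))
    (Upto.trans (mid := 10240) (Upto.trans (mid := 8192) ((Upto.of_pow relChk36_c3 (Nat.le_refl _)) : Upto _ _ 6144 (6144 + 2 ^ 11))
    ((Upto.of_pow relChk36_c4 (Nat.le_refl _)) : Upto _ _ 8192 (8192 + 2 ^ 11)))
    (Upto.trans (mid := 12288) ((Upto.of_pow relChk36_c5 (Nat.le_refl _)) : Upto _ _ 10240 (10240 + 2 ^ 11))
    ((Upto.of_pow relChk36_c6 (Nat.le_refl _)) : Upto _ _ 12288 (12288 + 2 ^ 11)))))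
    (by decide) (by decide)

theorem rel36 : ∀ u, u < 14080 → trace (wordTabs tabs [(.f, true), (.g, true), (.f, true), (.g, true), (.f, true), (.g, true)]) u = u :=
  trace_of_fixStep (ts := [T7, T6, T7, T6, T7, T6]) relChk36

theorem relChk37_c0 : allPow 14080 (fixStep [T8, T6, T8, T6]) 11 0 = true := by decide +kernel
theorem relChk37_c1 : allPow 14080 (fixStep [T8, T6, T8, T6]) 11 2048 = true := by decide +kernel
theorem relChk37_c2 : allPow 14080 (fixStep [T8, T6, T8, T6]) 11 4096 = true := by decide +kernel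
theorem relChk37_c3 : allPow 14080 (fixStep [T8, T6, T8, T6]) 11 6144 = true := by decide +kernel
theorem relChk37_c4 : allPow 14080 (fixStep [T8, T6, T8, T6]) 11 8192 = true := by decide +kernel
theorem relChk37_c5 : allPow 14080 (fixStep [T8, T6, T8, T6]) 11 10240 = true := by decide +kernel
theorem relChk37_c6 : allPow 14080 (fixStep [T8, T6, T8, T6]) 11 12288 = true := by decide +kernel
theorem relChk37 : allBelow 14 14080 (fixStep [T8, T6, T8, T6]) = true :=
  allBelow_of_upto (hi := 14336)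
    (Upto.trans (mid := 6144) (Upto.trans (mid := 2048) ((Upto.of_pow relChk37_c0 (Nat.le_refl _)) : Upto _ _ 0 (0 + 2 ^ 11))
    (Upto.trans (mid := 4096) ((Upto.of_pow relChk37_c1 (Nat.le_refl _)) : Upto _ _ 2048 (2048 + 2 ^ 11))
    ((Upto.of_pow relChk37_c2 (Nat.le_refl _)) : Upto _ _ 4096 (4096 + 2 ^ 11))))
    (Upto.trans (mid := 10240) (Upto.trans (mid := 8192) ((Upto.of_pow relChk37_c3 (Nat.le_refl _)) : Upto _ _ 6144 (6144 + 2 ^ 11))
    ((Upto.of_pow relChk37_c4 (Nat.le_refl _)) : Upto _ _ 8192 (8192 + 2 ^ 11)))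
    (Upto.trans (mid := 12288) ((Upto.of_pow relChk37_c5 (Nat.le_refl _)) : Upto _ _ 10240 (10240 + 2 ^ 11))
    ((Upto.of_pow relChk37_c6 (Nat.le_refl _)) : Upto _ _ 12288 (12288 + 2 ^ 11)))))
    (by decide) (by decide)

theorem rel37 : ∀ u, u < 14080 → trace (wordTabs tabs [(.f, true), (.h, true), (.f, true), (.h, true)]) u = u :=
  trace_of_fixStep (ts := [T8, T6, T8, T6]) relChk37

theorem relChk38_c0 : allPow 14080 (fixStep [T9, T6, T9, T6]) 11 0 = true := by decide +kernel
theorem relChk38_c1 : allPow 14080 (fixStep [T9, T6, T9, T6]) 11 2048 = true := by decide +kernel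
theorem relChk38_c2 : allPow 14080 (fixStep [T9, T6, T9, T6]) 11 4096 = true := by decide +kernel
theorem relChk38_c3 : allPow 14080 (fixStep [T9, T6, T9, T6]) 11 6144 = true := by decide +kernel
theorem relChk38_c4 : allPow 14080 (fixStep [T9, T6, T9, T6]) 11 8192 = true := by decide +kernel
theorem relChk38_c5 : allPow 14080 (fixStep [T9, T6, T9, T6]) 11 10240 = true := by decide +kernel
theorem relChk38_c6 : allPow 14080 (fixStep [T9, T6, T9, T6]) 11 12288 = true := by decide +kernel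
theorem relChk38 : allBelow 14 14080 (fixStep [T9, T6, T9, T6]) = true :=
  allBelow_of_upto (hi := 14336)
    (Upto.trans (mid := 6144) (Upto.trans (mid := 2048) ((Upto.of_pow relChk38_c0 (Nat.le_refl _)) : Upto _ _ 0 (0 + 2 ^ 11))
    (Upto.trans (mid := 4096) ((Upto.of_pow relChk38_c1 (Nat.le_refl _)) : Upto _ _ 2048 (2048 + 2 ^ 11))
    ((Upto.of_pow relChk38_c2 (Nat.le_refl _)) : Upto _ _ 4096 (4096 + 2 ^ 11))))
    (Upto.trans (mid := 10240) (Upto.trans (mid := 8192) ((Upto.of_pow relChk38_c3 (Nat.le_refl _)) : Upto _ _ 6144 (6144 + 2 ^ 11))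
    ((Upto.of_pow relChk38_c4 (Nat.le_refl _)) : Upto _ _ 8192 (8192 + 2 ^ 11)))
    (Upto.trans (mid := 12288) ((Upto.of_pow relChk38_c5 (Nat.le_refl _)) : Upto _ _ 10240 (10240 + 2 ^ 11))
    ((Upto.of_pow relChk38_c6 (Nat.le_refl _)) : Upto _ _ 12288 (12288 + 2 ^ 11)))))
    (by decide) (by decide)

theorem rel38 : ∀ u, u < 14080 → trace (wordTabs tabs [(.f, true), (.i, true), (.f, true), (.i, true)]) u = u :=
  trace_of_fixStep (ts := [T9, T6, T9, T6]) relChk38

end CfsgLib.SporRecognition.Cert.Fi22O
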